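import Cfsg.Agent.Lib.Basic.ExtraIso
import Cfsg.Agent.Lib.LocalEven.ExtraCount
import Cfsg.Prelude.Def_CaseTheorems

/-!
# Classification of extraspecial `2`-groups, by order and number of square roots of `1`
-/

set_option autoImplicit false
set_option linter.unusedSectionVars false
set_option linter.style.haveILetI false

namespace Cfsg.Agent.Lib.Basic

open Cfsg
open scoped commutatorElement

universe u v

namespace ExtClass

variable {E : Type*} [Group E]

/-- Central elements are `1` or the nontrivial central element. -/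
theorem center_eq (hE : ExtClass 2 E) {z w : E} (hz : z ∈ Subgroup.center E) (hz1 : z ≠ 1)
    (hw : w ∈ Subgroup.center E) (hw1 : w ≠ 1) : w = z := by
  have h := (Nat.card_eq_two_iff' (1 : Subgroup.center E)).1 hE.card_center
  obtain ⟨y, -, hy⟩ := h
  have h1 := hy ⟨z, hz⟩ (fun h => hz1 (congrArg Subtype.val h))
  have h2 := hy ⟨w, hw⟩ (fun h => hw1 (congrArg Subtype.val h))
  exact congrArg Subtype.val (h2.trans h1.symm)

theorem center_sq (hE : ExtClass 2 E) {z : E} (hz : z ∈ Subgroup.center E) : z ^ 2 = 1 := by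
  haveI : Finite (Subgroup.center E) := Nat.finite_of_card_ne_zero (by rw [hE.card_center]; norm_num)
  have := pow_card_eq_one' (G := Subgroup.center E) (x := ⟨z, hz⟩)
  rw [hE.card_center] at this
  exact congrArg Subtype.val this

theorem sq_eq (hE : ExtClass 2 E) {z : E} (hz : z ∈ Subgroup.center E) (hz1 : z ≠ 1) (g : E) :
    g ^ 2 = 1 ∨ g ^ 2 = z := by
  by_cases h : g ^ 2 = 1
  · exact Or.inl h
  · exact Or.inr (hE.center_eq hz hz1 (hE.pow_mem g) h)

theorem comm_eq (hE : ExtClass 2 E) {z : E} (hz : z ∈ Subgroup.center E) (hz1 : z ≠ 1) {x y : E}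
    (h : ⁅x, y⁆ ≠ 1) : ⁅x, y⁆ = z :=
  hE.center_eq hz hz1 (hE.comm_mem x y) h

/-- The square of a product. -/
theorem mul_sq (hE : ExtClass 2 E) (x y : E) : (x * y) ^ 2 = x ^ 2 * y ^ 2 * ⁅y, x⁆ := by
  have hcen := Subgroup.mem_center_iff.1 (hE.comm_mem y x)
  have h : y * x = ⁅y, x⁆ * (x * y) := by
    simp only [commutatorElement_def]; group
  calc (x * y) ^ 2 = x * (y * x) * y := by simp only [pow_two, mul_assoc]
    _ = x * (⁅y, x⁆ * (x * y)) * y := by rw [← h]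
    _ = (x * ⁅y, x⁆) * (x * y) * y := by simp only [mul_assoc]
    _ = (⁅y, x⁆ * x) * (x * y) * y := by rw [hcen x]
    _ = ⁅y, x⁆ * (x ^ 2 * y ^ 2) := by simp only [pow_two, mul_assoc]
    _ = x ^ 2 * y ^ 2 * ⁅y, x⁆ := (hcen _).symm

/-- A noncentral involution lies in a noncommuting pair of involutions. -/
theorem exists_invol_partner (hE : ExtClass 2 E) {z x : E} (hz : z ∈ Subgroup.center E) (hz1 : z ≠ 1)
    (hx : x ∉ Subgroup.center E) (hx2 : x ^ 2 = 1) : ∃ y : E, y ^ 2 = 1 ∧ ⁅y, x⁆ = z := by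
  have : ∃ b : E, ⁅b, x⁆ ≠ 1 := by
    by_contra hcon
    simp only [not_exists, not_not] at hcon
    apply hx
    rw [Subgroup.mem_center_iff]
    intro g
    exact commutatorElement_eq_one_iff_mul_comm.1 (hcon g)
  obtain ⟨b, hb⟩ := this
  have hbx := hE.comm_eq hz hz1 hb
  rcases hE.sq_eq hz hz1 b with hb2 | hb2
  · exact ⟨b, hb2, hbx⟩
  · refine ⟨x * b, ?_, ?_⟩
    · rw [hE.mul_sq, hx2, hb2, hbx, one_mul, ← pow_two, hE.center_sq hz]
    · rw [extc_mul_left hE.comm_mem, commutatorElement_self, one_mul, hbx]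

/-- A large group in the class has a noncentral involution. -/
theorem exists_noncentral_invol [Finite E] (hE : ExtClass 2 E) (hlarge : 8 < Nat.card E) :
    ∃ x : E, x ∉ Subgroup.center E ∧ x ^ 2 = 1 := by
  by_contra hcon
  simp only [not_exists, not_and] at hcon
  have hinv : ∀ x : E, x ^ 2 = 1 → x ∈ Subgroup.center E := fun x hx => by
    by_contra h
    exact hcon x h hx
  obtain ⟨z, hz, hz1⟩ := hE.exists_z
  have hna : ¬ ∀ x y : E, ⁅x, y⁆ = 1 := fun h => by
    have := hE.card_of_comm h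
    omega
  obtain ⟨a, b, hab⟩ := hE.exists_comm_eq hna hz hz1
  obtain ⟨hc, -, -, hZC⟩ := hE.split hz hz1 hab
  set C := Subgroup.centralizer ({a, b} : Set E) with hC
  have hCnot : ¬ C ≤ Subgroup.center E := by
    intro h
    have h1 := Subgroup.card_le_of_le h
    rw [hE.card_center] at h1
    omega
  obtain ⟨c, hcC, hcZ⟩ := SetLike.not_le_iff_exists.1 hCnot
  have hac := extc_centralizer_pair a b c hcC
  have haZ : a ∉ Subgroup.center E := by
    intro h
    apply hz1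
    rw [← hab]
    exact commutatorElement_eq_one_iff_mul_comm.2 (Subgroup.mem_center_iff.1 h b)
  have ha2 : a ^ 2 = z := (hE.sq_eq hz hz1 a).resolve_left (fun h => haZ (hinv a h))
  have hc2 : c ^ 2 = z := (hE.sq_eq hz hz1 c).resolve_left (fun h => hcZ (hinv c h))
  have hcomm : ⁅c, a⁆ = 1 := commutatorElement_eq_one_iff_mul_comm.2 hac.1.symm
  have hacsq : (a * c) ^ 2 = 1 := by
    rw [hE.mul_sq, ha2, hc2, hcomm, mul_one, ← pow_two, hE.center_sq hz]
  have h1 := hinv _ hacsq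
  have h2 := Subgroup.mem_center_iff.1 h1 b
  apply hz1
  rw [← hab]
  apply commutatorElement_eq_one_iff_mul_comm.2
  have h3 : b * a * c = a * b * c := by
    calc b * a * c = b * (a * c) := mul_assoc _ _ _
      _ = a * c * b := h2
      _ = a * (c * b) := mul_assoc _ _ _
      _ = a * (b * c) := by rw [hac.2]
      _ = a * b * c := (mul_assoc _ _ _).symm
  exact mul_right_cancel h3

/-- Counting square roots of `1` when all involutions are central. -/
theorem card_sqrt_of_central [Finite E] (hE : ExtClass 2 E)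
    (h : ∀ x : E, x ^ 2 = 1 → x ∈ Subgroup.center E) : Nat.card {x : E // x ^ 2 = 1} = 2 := by
  exact (Nat.card_congr (Equiv.subtypeEquivRight fun x => ⟨h x, fun hx => hE.center_sq hx⟩)).trans
    hE.card_center

theorem zpow_invol {x : E} (hx : x ^ 2 = 1) (s : ℤ) : ∃ i : Fin 2, x ^ s = x ^ (i : ℕ) := by
  have hs : s = 2 * (s / 2) + s % 2 := (Int.mul_ediv_add_emod s 2).symm
  have h2 : x ^ (2 * (s / 2)) = 1 := by
    rw [zpow_mul, zpow_ofNat, hx, one_zpow]
  rcases Int.emod_two_eq_zero_or_one s with h | h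
  · refine ⟨0, ?_⟩
    rw [hs, zpow_add, h2, h]; simp
  · refine ⟨1, ?_⟩
    rw [hs, zpow_add, h2, h]; simp

/-- The recursion for the number of square roots of `1`. -/
theorem card_sqrt_rec [Finite E] (hE : ExtClass 2 E) {z x y : E} (hz : z ∈ Subgroup.center E)
    (hz1 : z ≠ 1) (hx : x ^ 2 = 1) (hy : y ^ 2 = 1) (hxy : ⁅y, x⁆ = z) :
    Nat.card {g : E // g ^ 2 = 1} =
      2 * Nat.card {c : Subgroup.centralizer ({x, y} : Set E) // c ^ 2 = 1} +
        Nat.card (Subgroup.centralizer ({x, y} : Set E)) := by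
  classical
  obtain ⟨hc, hg, -, hZC⟩ := hE.split hz hz1 hxy
  set C := Subgroup.centralizer ({x, y} : Set E) with hC
  haveI : Fintype E := Fintype.ofFinite _
  haveI : Fintype C := Fintype.ofFinite _
  let f : C × Fin 2 × Fin 2 → E := fun t => (t.1 : E) * x ^ (t.2.1 : ℕ) * y ^ (t.2.2 : ℕ)
  have hfs : Function.Surjective f := by
    intro g
    obtain ⟨c, hc', s, t, rfl⟩ := hg g
    obtain ⟨i, hi⟩ := zpow_invol hx s
    obtain ⟨j, hj⟩ := zpow_invol hy t
    exact ⟨(⟨c, hc'⟩, i, j), by simp only [f, hi, hj]⟩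
  have hfb : Function.Bijective f := by
    apply hfs.bijective_of_nat_card_le
    rw [hc, Nat.card_prod, Nat.card_prod]
    simp only [Nat.card_eq_fintype_card, Fintype.card_fin]
    ring_nf
    exact le_refl _
  have h1 : Nat.card {g : E // g ^ 2 = 1} = Nat.card {t : C × Fin 2 × Fin 2 // (f t) ^ 2 = 1} :=
    (Nat.card_congr (Equiv.subtypeEquiv (Equiv.ofBijective f hfb) (fun t => Iff.rfl))).symm
  rw [h1]
  have hsq : ∀ c : C, ∀ i j : Fin 2, (f (c, i, j)) ^ 2 = (c : E) ^ 2 * ((x ^ (i : ℕ) * y ^ (j : ℕ)) ^ 2) := by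
    intro c i j
    have h2 := extc_centralizer_pair x y (c : E) c.2
    have h3 : Commute (c : E) x := h2.1.symm
    have h4 : Commute (c : E) y := h2.2.symm
    have h5 : Commute (c : E) (x ^ (i : ℕ) * y ^ (j : ℕ)) :=
      (h3.pow_right _).mul_right (h4.pow_right _)
    show ((c : E) * x ^ (i : ℕ) * y ^ (j : ℕ)) ^ 2 = _
    rw [mul_assoc, h5.mul_pow]
  have hxy2 : (x * y) ^ 2 = z := by
    rw [hE.mul_sq, hx, hy, hxy, one_mul, one_mul]
  have hcount : ∀ c : C, ∑ t : Fin 2 × Fin 2, (if (f (c, t)) ^ 2 = 1 then 1 else 0) =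
      1 + 2 * (if c ^ 2 = 1 then 1 else 0) := by
    intro c
    have hiff : c ^ 2 = 1 ↔ (c : E) ^ 2 = 1 := by
      rw [Subtype.ext_iff]; rfl
    have h00 : (f (c, (0 : Fin 2), (0 : Fin 2))) ^ 2 = 1 ↔ c ^ 2 = 1 := by
      rw [hsq, hiff]; simp
    have h10 : (f (c, (1 : Fin 2), (0 : Fin 2))) ^ 2 = 1 ↔ c ^ 2 = 1 := by
      rw [hsq, hiff]; simp [hx]
    have h01 : (f (c, (0 : Fin 2), (1 : Fin 2))) ^ 2 = 1 ↔ c ^ 2 = 1 := by
      rw [hsq, hiff]; simp [hy]
    have h11 : (f (c, (1 : Fin 2), (1 : Fin 2))) ^ 2 = 1 ↔ ¬ c ^ 2 = 1 := by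
      rw [hsq, hiff]
      simp only [Fin.val_one, pow_one, hxy2]
      rcases hE.sq_eq hz hz1 (c : E) with h | h
      · rw [h, one_mul]
        simp [hz1]
      · rw [h, ← pow_two, hE.center_sq hz]
        simp [hz1]
    rw [Fintype.sum_prod_type]
    simp only [Fin.sum_univ_two]
    by_cases hc2 : c ^ 2 = 1
    · simp only [if_pos (h00.2 hc2), if_pos (h10.2 hc2), if_pos (h01.2 hc2),
        if_neg (show ¬ _ from fun h => (h11.1 h) hc2), if_pos hc2]; norm_num
    · simp only [if_neg (show ¬ _ from fun h => hc2 (h00.1 h)),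
        if_neg (show ¬ _ from fun h => hc2 (h10.1 h)),
        if_neg (show ¬ _ from fun h => hc2 (h01.1 h)), if_pos (h11.2 hc2), if_neg hc2]; norm_num
  rw [Nat.card_eq_fintype_card, Fintype.card_subtype, Finset.card_filter,
    Fintype.sum_prod_type]
  simp only [hcount]
  rw [Finset.sum_add_distrib, ← Finset.mul_sum, Nat.card_eq_fintype_card (α := {c : C // c ^ 2 = 1}),
    Fintype.card_subtype, Finset.card_filter, Nat.card_eq_fintype_card (α := C)]
  simp [add_comm]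

/-- The basic invariant. -/
theorem exists_sqrt_pos (E : Type*) [Group E] [Finite E] : 0 < Nat.card {x : E // x ^ 2 = 1} :=
  haveI : Nonempty {x : E // x ^ 2 = 1} := ⟨⟨1, one_pow 2⟩⟩
  Nat.card_pos

/-- If all involutions are central, the elements of a noncommuting pair square to the central
involution. -/
theorem sq_of_central (hE : ExtClass 2 E) (hinv : ∀ x : E, x ^ 2 = 1 → x ∈ Subgroup.center E)
    {z a b : E} (hz : z ∈ Subgroup.center E) (hz1 : z ≠ 1) (hab : ⁅b, a⁆ = z) :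
    a ^ 2 = z ∧ b ^ 2 = z := by
  constructor
  · refine (hE.sq_eq hz hz1 a).resolve_left fun h => hz1 ?_
    rw [← hab]
    exact commutatorElement_eq_one_iff_mul_comm.2 (Subgroup.mem_center_iff.1 (hinv a h) b)
  · refine (hE.sq_eq hz hz1 b).resolve_left fun h => hz1 ?_
    rw [← hab]
    exact commutatorElement_eq_one_iff_mul_comm.2 (Subgroup.mem_center_iff.1 (hinv b h) a).symm

/-- The image of `φ` of the centre. -/
theorem phi_center {E₁ : Type u} {E₂ : Type v} [Group E₁] [Group E₂] (h₂ : ExtClass 2 E₂)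
    (φ : E₁ ≃* E₂) {z₁ : E₁} {z₂ : E₂} (hz₁ : z₁ ∈ Subgroup.center E₁) (hz₁1 : z₁ ≠ 1)
    (hz₂ : z₂ ∈ Subgroup.center E₂) (hz₂1 : z₂ ≠ 1) : φ z₁ = z₂ := by
  refine h₂.center_eq hz₂ hz₂1 ?_ ?_
  · rw [Subgroup.mem_center_iff] at hz₁ ⊢
    intro g
    obtain ⟨g', rfl⟩ := φ.surjective g
    rw [← map_mul, ← map_mul, hz₁ g']
  · rw [Ne, map_eq_one_iff φ φ.injective]
    exact hz₁1

end ExtClass

/-- Adjoining an involution centralizing an elementary abelian subgroup. -/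
theorem extiso_extend_ea {E : Type*} [Group E] [Finite E] (A : Subgroup E)
    (hA : IsElementaryAbelian 2 A) {x : E} (hx : x ^ 2 = 1) (hxA : x ∉ A)
    (hc : ∀ a ∈ A, x * a = a * x) :
    IsElementaryAbelian 2 (A ⊔ Subgroup.zpowers x) ∧
      Nat.card ↥(A ⊔ Subgroup.zpowers x) = 2 * Nat.card A := by
  have hn : Subgroup.zpowers x ≤ Subgroup.normalizer (A : Set E) := by
    rw [Subgroup.zpowers_le]
    exact Subgroup.centralizer_le_normalizer _ (Subgroup.mem_centralizer_iff.2 fun t ht => (hc t ht).symm)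
  have hAb : ∀ a ∈ A, ∀ b ∈ A, a * b = b * a := by
    intro a ha b hb
    have := hA.1.is_comm.comm (⟨a, ha⟩ : A) ⟨b, hb⟩
    exact congrArg Subtype.val this
  have hmem : ∀ u ∈ A ⊔ Subgroup.zpowers x, ∃ a ∈ A, ∃ k : ℤ, u = a * x ^ k := by
    intro u hu
    obtain ⟨a, ha, _, ⟨k, rfl⟩, rfl⟩ := (Cfsg.Agent.Lib.LocalEven.mem_sup_iff_of_normalizes hn).1 hu
    exact ⟨a, ha, k, rfl⟩
  have hxa : ∀ a ∈ A, Commute x a := fun a ha => hc a ha
  refine ⟨⟨⟨⟨?_⟩⟩, ?_⟩, ?_⟩
  · rintro ⟨u, hu⟩ ⟨v, hv⟩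
    obtain ⟨a, ha, k, rfl⟩ := hmem u hu
    obtain ⟨b, hb, l, rfl⟩ := hmem v hv
    apply Subtype.ext
    show a * x ^ k * (b * x ^ l) = b * x ^ l * (a * x ^ k)
    have h3 : x ^ k * b = b * x ^ k := ((hxa b hb).zpow_left k).eq
    have h4 : x ^ l * a = a * x ^ l := ((hxa a ha).zpow_left l).eq
    have h5 : x ^ k * x ^ l = x ^ l * x ^ k := ((Commute.refl x).zpow_zpow k l).eq
    calc a * x ^ k * (b * x ^ l) = a * (x ^ k * b) * x ^ l := by group
      _ = a * (b * x ^ k) * x ^ l := by rw [h3]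
      _ = (a * b) * (x ^ k * x ^ l) := by group
      _ = (b * a) * (x ^ l * x ^ k) := by rw [hAb a ha b hb, h5]
      _ = b * (a * x ^ l) * x ^ k := by group
      _ = b * (x ^ l * a) * x ^ k := by rw [h4]
      _ = b * x ^ l * (a * x ^ k) := by group
  · intro u hu
    obtain ⟨a, ha, k, rfl⟩ := hmem u hu
    have h1 : Commute a (x ^ k) := ((hxa a ha).zpow_left k).symm
    rw [h1.mul_pow, hA.2 a ha, one_mul, ← zpow_natCast, ← zpow_mul, mul_comm, zpow_mul, zpow_natCast, hx,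
      one_zpow]
  · have hle := extiso_card_sup_zpowers_le (p := 2) (by norm_num) A x (Subgroup.zpowers_le.1 hn)
      (by rw [hx]; exact one_mem _)
    have hdvd : Nat.card A ∣ Nat.card ↥(A ⊔ Subgroup.zpowers x) :=
      Subgroup.card_dvd_of_le le_sup_left
    obtain ⟨k, hk⟩ := hdvd
    have hpos : 0 < Nat.card A := Nat.card_pos
    have hk1 : k ≠ 1 := by
      rintro rfl
      rw [mul_one] at hk
      have : A ⊔ Subgroup.zpowers x = A := (Subgroup.eq_of_le_of_card_ge le_sup_left hk.le).symm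
      apply hxA
      rw [← this]
      exact Subgroup.mem_sup_right (Subgroup.mem_zpowers x)
    have hk0 : k ≠ 0 := by
      rintro rfl
      rw [mul_zero] at hk
      exact Nat.card_pos.ne' hk
    rw [hk] at hle ⊢
    have hk2 : k = 2 := by
      have : k ≤ 2 := by
        by_contra hcon
        have : 3 ≤ k := by omega
        nlinarith
      omega
    rw [hk2, mul_comm]

section main

/-- Order, count of square roots of `1`, and large elementary abelian subgroups. -/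
theorem ext2_main : ∀ (m : ℕ) (E : Type u) [Group E] [Finite E], ExtClass 2 E →
    Nat.card E = 2 ^ (2 * m + 1) →
    (Nat.card {x : E // x ^ 2 = 1} = 2 ^ (2 * m) + 2 ^ m ∧
      ∃ A : Subgroup E, IsElementaryAbelian 2 A ∧ Nat.card A = 2 ^ (m + 1)) ∨
    (1 ≤ m ∧ Nat.card {x : E // x ^ 2 = 1} = 2 ^ (2 * m) - 2 ^ m ∧
      ∃ A : Subgroup E, IsElementaryAbelian 2 A ∧ Nat.card A = 2 ^ m) := by
  intro m
  induction m with
  | zero =>
    intro E _ _ hE hc
    left
    have hc2 : Nat.card E = 2 := by simpa using hc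
    have hall : ∀ x : E, x ^ 2 = 1 := fun x => by
      have := pow_card_eq_one' (x := x)
      rwa [hc2] at this
    have hZ : Subgroup.center E = ⊤ := by
      apply Subgroup.eq_top_of_card_eq
      rw [hE.card_center, hc2]
    refine ⟨?_, Subgroup.center E, ⟨?_, fun a _ => hall a⟩, by rw [hE.card_center]; norm_num⟩
    · have : Nat.card {x : E // x ^ 2 = 1} = Nat.card E :=
        Nat.card_congr (Equiv.subtypeUnivEquiv hall)
      rw [this, hc2]; norm_num
    · infer_instance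
  | succ m ih =>
    intro E _ _ hE hc
    obtain ⟨z, hz, hz1⟩ := hE.exists_z
    have h4 : 2 ^ (2 * (m + 1) + 1) = 2 ^ 2 * 2 ^ (2 * m + 1) := by ring
    by_cases hnc : ∃ x : E, x ∉ Subgroup.center E ∧ x ^ 2 = 1
    · obtain ⟨x, hx, hx2⟩ := hnc
      obtain ⟨y, hy2, hxy⟩ := hE.exists_invol_partner hz hz1 hx hx2
      obtain ⟨hcC, -, hC, -⟩ := hE.split hz hz1 hxy
      have hrec := hE.card_sqrt_rec hz hz1 hx2 hy2 hxy
      set C := Subgroup.centralizer ({x, y} : Set E) with hCdef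
      have hcC' : Nat.card C = 2 ^ (2 * m + 1) := by
        rw [hc, h4] at hcC
        exact (Nat.eq_of_mul_eq_mul_left (by norm_num) hcC).symm
      -- lifting elementary abelian subgroups
      have hlift : ∀ A' : Subgroup C, IsElementaryAbelian 2 A' →
          ∃ A : Subgroup E, IsElementaryAbelian 2 A ∧ Nat.card A = 2 * Nat.card A' := by
        intro A' hA'
        let A₀ : Subgroup E := A'.map C.subtype
        have hA₀c : Nat.card A₀ = Nat.card A' :=
          Nat.card_congr (A'.equivMapOfInjective C.subtype C.subtype_injective).toEquiv.symm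
        have hA₀ : IsElementaryAbelian 2 A₀ := by
          refine ⟨⟨⟨?_⟩⟩, ?_⟩
          · rintro ⟨_, a, ha, rfl⟩ ⟨_, b, hb, rfl⟩
            apply Subtype.ext
            have := hA'.1.is_comm.comm (⟨a, ha⟩ : A') ⟨b, hb⟩
            exact congrArg (fun t : A' => ((t : C) : E)) this
          · rintro _ ⟨a, ha, rfl⟩
            exact congrArg Subtype.val (hA'.2 a ha)
        have hA₀C : A₀ ≤ C := by
          rintro _ ⟨a, -, rfl⟩
          exact a.2
        have hxA : x ∉ A₀ := by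
          intro h
          have := (extc_centralizer_pair x y x (hA₀C h)).2
          apply hz1
          rw [← hxy]
          exact commutatorElement_eq_one_iff_mul_comm.2 this
        have hcomm : ∀ a ∈ A₀, x * a = a * x := fun a ha =>
          (extc_centralizer_pair x y a (hA₀C ha)).1
        obtain ⟨h1, h2⟩ := extiso_extend_ea A₀ hA₀ hx2 hxA hcomm
        exact ⟨_, h1, by rw [h2, hA₀c]⟩
      have ha : 2 ^ (2 * (m + 1)) = 4 * 2 ^ (2 * m) := by ring
      have hb : 2 ^ (2 * m + 1) = 2 * 2 ^ (2 * m) := by ring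
      have hd : 2 ^ (m + 1) = 2 * 2 ^ m := by ring
      have hle : 2 ^ m ≤ 2 ^ (2 * m) := Nat.pow_le_pow_right (by norm_num) (by omega)
      rcases ih C hC hcC' with ⟨hN, A', hA', hA'c⟩ | ⟨hm, hN, A', hA', hA'c⟩
      · left
        refine ⟨?_, ?_⟩
        · rw [hrec, hN, hcC', ha, hb, hd]; omega
        · obtain ⟨A, hA, hAc⟩ := hlift A' hA'
          refine ⟨A, hA, ?_⟩
          rw [hAc, hA'c]; ring
      · right
        refine ⟨by omega, ?_, ?_⟩
        · rw [hrec, hN, hcC', ha, hb, hd]; omega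
        · obtain ⟨A, hA, hAc⟩ := hlift A' hA'
          refine ⟨A, hA, ?_⟩
          rw [hAc, hA'c]; ring
    · -- all involutions are central
      simp only [not_exists, not_and] at hnc
      have hinv : ∀ x : E, x ^ 2 = 1 → x ∈ Subgroup.center E := fun x hx => by
        by_contra h
        exact hnc x h hx
      have hm0 : m = 0 := by
        by_contra hm
        have h8 : 8 < Nat.card E := by
          rw [hc]
          have : 2 ^ 5 ≤ 2 ^ (2 * (m + 1) + 1) := Nat.pow_le_pow_right (by norm_num) (by omega)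
          omega
        obtain ⟨x, hx, hx2⟩ := hE.exists_noncentral_invol h8
        exact hx (hinv x hx2)
      subst hm0
      right
      refine ⟨le_refl _, ?_, Subgroup.center E, ⟨?_, fun a ha => hE.center_sq ha⟩, by
        rw [hE.card_center]; norm_num⟩
      · rw [hE.card_sqrt_of_central hinv]; norm_num
      · infer_instance

/-- Order and count of square roots of `1` determine the isomorphism type. -/
theorem ext2_iso : ∀ (m : ℕ) (E₁ : Type u) (E₂ : Type v) [Group E₁] [Group E₂] [Finite E₁] [Finite E₂],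
    ExtClass 2 E₁ → ExtClass 2 E₂ → Nat.card E₁ = 2 ^ (2 * m + 1) → Nat.card E₂ = 2 ^ (2 * m + 1) →
    Nat.card {x : E₁ // x ^ 2 = 1} = Nat.card {x : E₂ // x ^ 2 = 1} → Nonempty (E₁ ≃* E₂) := by
  intro m
  induction m with
  | zero =>
    intro E₁ E₂ _ _ _ _ _ _ hc₁ hc₂ _
    exact ⟨mulEquivOfPrimeCardEq (p := 2) (by simpa using hc₁) (by simpa using hc₂)⟩
  | succ m ih =>
    intro E₁ E₂ _ _ _ _ h₁ h₂ hc₁ hc₂ hN
    obtain ⟨z₁, hz₁, hz₁1⟩ := h₁.exists_z
    obtain ⟨z₂, hz₂, hz₂1⟩ := h₂.exists_z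
    have h4 : 2 ^ (2 * (m + 1) + 1) = 2 ^ 2 * 2 ^ (2 * m + 1) := by ring
    have hone : ∀ {A : Type u} {B : Type v} [Group A] [Group B] (C₁ : Subgroup A) (C₂ : Subgroup B)
        (φ : C₁ ≃* C₂) (u : A) (v : B), u ^ 2 = 1 → v ^ 2 = 1 →
        ∃ h, (φ ⟨u ^ 2, h⟩ : B) = v ^ 2 := by
      intro A B _ _ C₁ C₂ φ u v hu hv
      have hm : u ^ 2 ∈ C₁ := by rw [hu]; exact one_mem _
      refine ⟨hm, ?_⟩
      have : (⟨u ^ 2, hm⟩ : C₁) = 1 := Subtype.ext hu
      rw [this, map_one, hv]; rfl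
    have hDcase : ∀ (x₁ y₁ : E₁) (x₂ y₂ : E₂), x₁ ^ 2 = 1 → y₁ ^ 2 = 1 → ⁅y₁, x₁⁆ = z₁ →
        x₂ ^ 2 = 1 → y₂ ^ 2 = 1 → ⁅y₂, x₂⁆ = z₂ → Nonempty (E₁ ≃* E₂) := by
      intro x₁ y₁ x₂ y₂ hx₁ hy₁ hxy₁ hx₂ hy₂ hxy₂
      obtain ⟨hcC₁, -, hC₁, hZ₁⟩ := h₁.split hz₁ hz₁1 hxy₁
      obtain ⟨hcC₂, -, hC₂, hZ₂⟩ := h₂.split hz₂ hz₂1 hxy₂
      have hr₁ := h₁.card_sqrt_rec hz₁ hz₁1 hx₁ hy₁ hxy₁
      have hr₂ := h₂.card_sqrt_rec hz₂ hz₂1 hx₂ hy₂ hxy₂
      have hcC₁' : Nat.card (Subgroup.centralizer ({x₁, y₁} : Set E₁)) = 2 ^ (2 * m + 1) := by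
        rw [hc₁, h4] at hcC₁
        exact (Nat.eq_of_mul_eq_mul_left (by norm_num) hcC₁).symm
      have hcC₂' : Nat.card (Subgroup.centralizer ({x₂, y₂} : Set E₂)) = 2 ^ (2 * m + 1) := by
        rw [hc₂, h4] at hcC₂
        exact (Nat.eq_of_mul_eq_mul_left (by norm_num) hcC₂).symm
      have hNC : Nat.card {c : Subgroup.centralizer ({x₁, y₁} : Set E₁) // c ^ 2 = 1} =
          Nat.card {c : Subgroup.centralizer ({x₂, y₂} : Set E₂) // c ^ 2 = 1} := by
        rw [hr₁, hr₂, hcC₁', hcC₂'] at hN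
        omega
      obtain ⟨φ⟩ := ih _ _ hC₁ hC₂ hcC₁' hcC₂' hNC
      have hφ : (φ ⟨z₁, hZ₁ hz₁⟩ : E₂) = z₂ := by
        have := hC₂.phi_center φ (z₁ := ⟨z₁, hZ₁ hz₁⟩) (z₂ := ⟨z₂, hZ₂ hz₂⟩)
          (extc_center_centralizer _ _ hz₁ _) (fun h => hz₁1 (congrArg Subtype.val h))
          (extc_center_centralizer _ _ hz₂ _) (fun h => hz₂1 (congrArg Subtype.val h))
        exact congrArg Subtype.val this
      obtain ⟨f, -⟩ := h₁.iso_of_split h₂ hz₁ hz₂ hz₁1 hz₂1 hxy₁ hxy₂ φ ⟨hZ₁ hz₁, hφ⟩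
        (hone _ _ φ _ _ hx₁ hx₂) (hone _ _ φ _ _ hy₁ hy₂)
      exact ⟨f⟩
    by_cases hnc : ∃ x : E₁, x ∉ Subgroup.center E₁ ∧ x ^ 2 = 1
    · -- both have noncentral involutions
      obtain ⟨x₁, hx₁, hx₁2⟩ := hnc
      obtain ⟨y₁, hy₁2, hxy₁⟩ := h₁.exists_invol_partner hz₁ hz₁1 hx₁ hx₁2
      have hnot2 : Nat.card {x : E₁ // x ^ 2 = 1} ≠ 2 := by
        rw [h₁.card_sqrt_rec hz₁ hz₁1 hx₁2 hy₁2 hxy₁]
        have h1 := ExtClass.exists_sqrt_pos (Subgroup.centralizer ({x₁, y₁} : Set E₁))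
        have h2 : 0 < Nat.card (Subgroup.centralizer ({x₁, y₁} : Set E₁)) := Nat.card_pos
        omega
      have hnc₂ : ∃ x : E₂, x ∉ Subgroup.center E₂ ∧ x ^ 2 = 1 := by
        by_contra hcon
        simp only [not_exists, not_and] at hcon
        apply hnot2
        rw [hN]
        exact h₂.card_sqrt_of_central fun x hx => by
          by_contra h
          exact hcon x h hx
      obtain ⟨x₂, hx₂, hx₂2⟩ := hnc₂
      obtain ⟨y₂, hy₂2, hxy₂⟩ := h₂.exists_invol_partner hz₂ hz₂1 hx₂ hx₂2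
      exact hDcase _ _ _ _ hx₁2 hy₁2 hxy₁ hx₂2 hy₂2 hxy₂
    · simp only [not_exists, not_and] at hnc
      have hinv₁ : ∀ x : E₁, x ^ 2 = 1 → x ∈ Subgroup.center E₁ := fun x hx => by
        by_contra h
        exact hnc x h hx
      have hinv₂ : ∀ x : E₂, x ^ 2 = 1 → x ∈ Subgroup.center E₂ := by
        by_contra hcon
        simp only [not_forall] at hcon
        obtain ⟨x₂, hx₂2, hx₂⟩ := hcon
        obtain ⟨y₂, hy₂2, hxy₂⟩ := h₂.exists_invol_partner hz₂ hz₂1 hx₂ hx₂2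
        have h1 := h₂.card_sqrt_rec hz₂ hz₂1 hx₂2 hy₂2 hxy₂
        have h2 := ExtClass.exists_sqrt_pos (Subgroup.centralizer ({x₂, y₂} : Set E₂))
        have h3 : 0 < Nat.card (Subgroup.centralizer ({x₂, y₂} : Set E₂)) := Nat.card_pos
        rw [← hN, h₁.card_sqrt_of_central hinv₁] at h1
        omega
      have hm0 : m = 0 := by
        by_contra hm
        have h8 : 8 < Nat.card E₁ := by
          rw [hc₁]
          have : 2 ^ 5 ≤ 2 ^ (2 * (m + 1) + 1) := Nat.pow_le_pow_right (by norm_num) (by omega)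
          omega
        obtain ⟨x, hx, hx2⟩ := h₁.exists_noncentral_invol h8
        exact hx (hinv₁ x hx2)
      subst hm0
      have hna₁ : ¬ ∀ x y : E₁, ⁅x, y⁆ = 1 := fun h => by
        have := h₁.card_of_comm h
        rw [hc₁] at this
        norm_num at this
      have hna₂ : ¬ ∀ x y : E₂, ⁅x, y⁆ = 1 := fun h => by
        have := h₂.card_of_comm h
        rw [hc₂] at this
        norm_num at this
      obtain ⟨a₁, b₁, hab₁⟩ := h₁.exists_comm_eq hna₁ hz₁ hz₁1
      obtain ⟨a₂, b₂, hab₂⟩ := h₂.exists_comm_eq hna₂ hz₂ hz₂1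
      obtain ⟨hcC₁, -, hC₁, hZ₁⟩ := h₁.split hz₁ hz₁1 hab₁
      obtain ⟨hcC₂, -, hC₂, hZ₂⟩ := h₂.split hz₂ hz₂1 hab₂
      have hcC₁' : Nat.card (Subgroup.centralizer ({a₁, b₁} : Set E₁)) = 2 := by
        rw [hc₁] at hcC₁
        norm_num at hcC₁
        omega
      have hcC₂' : Nat.card (Subgroup.centralizer ({a₂, b₂} : Set E₂)) = 2 := by
        rw [hc₂] at hcC₂
        norm_num at hcC₂
        omega
      let φ : Subgroup.centralizer ({a₁, b₁} : Set E₁) ≃* Subgroup.centralizer ({a₂, b₂} : Set E₂) :=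
        mulEquivOfPrimeCardEq (p := 2) hcC₁' hcC₂'
      have hφ : (φ ⟨z₁, hZ₁ hz₁⟩ : E₂) = z₂ := by
        have := hC₂.phi_center φ (z₁ := ⟨z₁, hZ₁ hz₁⟩) (z₂ := ⟨z₂, hZ₂ hz₂⟩)
          (extc_center_centralizer _ _ hz₁ _) (fun h => hz₁1 (congrArg Subtype.val h))
          (extc_center_centralizer _ _ hz₂ _) (fun h => hz₂1 (congrArg Subtype.val h))
        exact congrArg Subtype.val this
      obtain ⟨ha₁, hb₁⟩ := h₁.sq_of_central hinv₁ hz₁ hz₁1 hab₁
      obtain ⟨ha₂, hb₂⟩ := h₂.sq_of_central hinv₂ hz₂ hz₂1 hab₂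
      have hzz : ∀ (u : E₁) (v : E₂), u ^ 2 = z₁ → v ^ 2 = z₂ → ∃ h, (φ ⟨u ^ 2, h⟩ : E₂) = v ^ 2 := by
        intro u v hu hv
        have hm : u ^ 2 ∈ Subgroup.centralizer ({a₁, b₁} : Set E₁) := by
          rw [hu]; exact hZ₁ hz₁
        refine ⟨hm, ?_⟩
        have : (⟨u ^ 2, hm⟩ : Subgroup.centralizer ({a₁, b₁} : Set E₁)) = ⟨z₁, hZ₁ hz₁⟩ := Subtype.ext hu
        rw [this, hφ, hv]
      obtain ⟨f, -⟩ := h₁.iso_of_split h₂ hz₁ hz₂ hz₁1 hz₂1 hab₁ hab₂ φ ⟨hZ₁ hz₁, hφ⟩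
        (hzz _ _ ha₁ ha₂) (hzz _ _ hb₁ hb₂)
      exact ⟨f⟩

/-- The statement for extraspecial groups: order and count. -/
theorem extraspecial2_order_count {E : Type*} [Group E] [Finite E] (hE : IsExtraspecial 2 E) :
    ∃ m : ℕ, 1 ≤ m ∧ Nat.card E = 2 ^ (2 * m + 1) ∧
      (Nat.card {x : E // x ^ 2 = 1} = 2 ^ (2 * m) + 2 ^ m ∨
        Nat.card {x : E // x ^ 2 = 1} = 2 ^ (2 * m) - 2 ^ m) := by
  obtain ⟨n, hn, hc⟩ := Cfsg.Agent.Lib.Coprime.ext_card hE
  have hc' : Nat.card E = 2 ^ (2 * n + 1) := by rw [hc, add_comm]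
  refine ⟨n, hn, hc', ?_⟩
  rcases ext2_main n E (ExtClass.of_extraspecial hE) hc' with ⟨h, -⟩ | ⟨-, h, -⟩
  · exact Or.inl h
  · exact Or.inr h

/-- Extraspecial `2`-groups with the same order and same count are isomorphic. -/
theorem extraspecial2_iso {E₁ : Type u} {E₂ : Type v} [Group E₁] [Group E₂] [Finite E₁] [Finite E₂]
    (h₁ : IsExtraspecial 2 E₁) (h₂ : IsExtraspecial 2 E₂) (hc : Nat.card E₁ = Nat.card E₂)
    (hN : Nat.card {x : E₁ // x ^ 2 = 1} = Nat.card {x : E₂ // x ^ 2 = 1}) :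
    Nonempty (E₁ ≃* E₂) := by
  obtain ⟨n, -, hc₁, -⟩ := extraspecial2_order_count h₁
  exact ext2_iso n E₁ E₂ (ExtClass.of_extraspecial h₁) (ExtClass.of_extraspecial h₂) hc₁
    (hc.symm.trans hc₁) hN

/-- A large elementary abelian subgroup forces the "plus" count. -/
theorem ext2_plus_of_ea {E : Type*} [Group E] [Finite E] (m : ℕ) (hm : 1 ≤ m)
    (hE : IsExtraspecial 2 E) (hcard : Nat.card E = 2 ^ (2 * m + 1))
    (hplus : ∃ A : Subgroup E, IsElementaryAbelian 2 A ∧ Nat.card A = 2 ^ (m + 1)) :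
    Nat.card {x : E // x ^ 2 = 1} = 2 ^ (2 * m) + 2 ^ m := by
  classical
  have h := Cfsg.Agent.Lib.LocalEven.extra_count m hm hE hcard hplus
  have hord : ∀ x : E, ¬ x ^ 2 = 1 ↔ orderOf x = 4 := by
    intro x
    constructor
    · intro h
      have h4 : x ^ 2 ^ (1 + 1) = 1 := Cfsg.Agent.Lib.Coprime.ext_pow_sq hE x
      have h5 : ¬ x ^ 2 ^ 1 = 1 := by simpa using h
      have := orderOf_eq_prime_pow h5 h4
      rw [this]
      norm_num
    · intro h e
      have := orderOf_dvd_of_pow_eq_one e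
      rw [h] at this
      omega
  have hsum : Nat.card {x : E // x ^ 2 = 1} + Nat.card {x : E // orderOf x = 4} = Nat.card E := by
    rw [← Nat.card_sum]
    exact Nat.card_congr ((Equiv.sumCongr (Equiv.refl _) (Equiv.subtypeEquivRight hord).symm).trans
      (Equiv.sumCompl fun x : E => x ^ 2 = 1))
  have ha : 2 ^ (2 * m + 1) = 2 * 2 ^ (2 * m) := by ring
  have hle : 2 ^ m ≤ 2 ^ (2 * m) := Nat.pow_le_pow_right (by norm_num) (by omega)
  rw [h, hcard, ha] at hsum
  omega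

/-- The two types by rank. -/
theorem extraspecial2_rank_cases {E : Type*} [Group E] [Finite E] (hE : IsExtraspecial 2 E) (n : ℕ)
    (hn : Nat.card E = 2 ^ (2 * n + 1)) :
    (Nat.card {x : E // x ^ 2 = 1} = 2 ^ (2 * n) + 2 ^ n ∧ PRankLE 2 (n + 1) E ∧ ¬ PRankLE 2 n E) ∨
    (Nat.card {x : E // x ^ 2 = 1} = 2 ^ (2 * n) - 2 ^ n ∧ PRankLE 2 n E ∧ ¬ PRankLE 2 (n - 1) E) := by
  have hn' : Nat.card E = 2 ^ (1 + 2 * n) := by rw [hn, add_comm]
  have hab : ∀ (A : Subgroup E), IsMulCommutative A → Nat.card A ≤ 2 ^ (1 + n) := fun A hA =>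
    Cfsg.Agent.Lib.Coprime.ext_abelian_card_le hE hn' A hA
  have hpos : 0 < 2 ^ n := by positivity
  rcases ext2_main n E (ExtClass.of_extraspecial hE) hn with ⟨hN, A, hA, hAc⟩ | ⟨hm, hN, A, hA, hAc⟩
  · left
    refine ⟨hN, ?_, ?_⟩
    · intro B hB _
      rw [add_comm]
      exact hab B hB
    · intro h
      have := h A hA.1 hA.2
      rw [hAc, pow_succ] at this
      omega
  · right
    refine ⟨hN, ?_, ?_⟩
    · intro B hB hB2
      by_contra hcon
      have hdvd : Nat.card B ∣ 2 ^ (2 * n + 1) := by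
        rw [← hn]; exact Subgroup.card_subgroup_dvd_card B
      obtain ⟨j, -, hj⟩ := (Nat.dvd_prime_pow Nat.prime_two).1 hdvd
      have h1 := hab B hB
      rw [hj] at h1 hcon
      have hj1 : j = n + 1 := by
        have h2 : n < j := (Nat.pow_lt_pow_iff_right (by norm_num)).1 (not_le.1 hcon)
        have h3 : j ≤ 1 + n := (Nat.pow_le_pow_iff_right (by norm_num)).1 h1
        omega
      have := ext2_plus_of_ea n hm hE hn ⟨B, ⟨hB, hB2⟩, by rw [hj, hj1]⟩
      rw [hN] at this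
      have hle : 2 ^ n ≤ 2 ^ (2 * n) := Nat.pow_le_pow_right (by norm_num) (by omega)
      omega
    · intro h
      have := h A hA.1 hA.2
      rw [hAc] at this
      have h2 : 2 ^ n ≤ 2 ^ (n - 1) := this
      have h3 := (Nat.pow_le_pow_iff_right (a := 2) (by norm_num)).1 h2
      omega

end main

end Cfsg.Agent.Lib.Basic
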