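import Mathlib
import Cfsg.Prelude.Def_Transfer
import Cfsg.Agent.Lib.Coprime.Extraspecial
import Cfsg.Agent.Lib.LocalEven.PClosed

/-!
# Isomorphism type of extraspecial groups: the graph argument

If two groups are generated over "parts" `C₁ ≅ C₂` by two elements each satisfying the same
relations and having the right orders, then they are isomorphic: the subgroup of `E₁ × E₂` generated
by the graph of `C₁ ≅ C₂` and the two pairs of elements is the graph of an isomorphism.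
-/

set_option autoImplicit false
set_option linter.unusedSectionVars false
set_option linter.style.haveILetI false

namespace Cfsg.Agent.Lib.Basic

open Cfsg
open scoped commutatorElement

universe u v w

/-- Adjoining an element normalizing `H` with `x ^ p ∈ H` multiplies the order by at most `p`. -/
theorem extiso_card_sup_zpowers_le {G : Type*} [Group G] [Finite G] {p : ℕ} (hp : 0 < p)
    (H : Subgroup G) (x : G) (hN : x ∈ Subgroup.normalizer (H : Set G)) (hx : x ^ p ∈ H) :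
    Nat.card ↥(H ⊔ Subgroup.zpowers x) ≤ p * Nat.card H := by
  have hz : Subgroup.zpowers x ≤ Subgroup.normalizer (H : Set G) := Subgroup.zpowers_le.mpr hN
  let F : Fin p × H → ↥(H ⊔ Subgroup.zpowers x) := fun t =>
    ⟨(t.2 : G) * x ^ (t.1 : ℕ), mul_mem (Subgroup.mem_sup_left t.2.2)
      (pow_mem (Subgroup.mem_sup_right (Subgroup.mem_zpowers x)) _)⟩
  have hF : Function.Surjective F := by
    rintro ⟨g, hg⟩
    obtain ⟨h, hh, _, ⟨k, rfl⟩, rfl⟩ :=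
      (Cfsg.Agent.Lib.LocalEven.mem_sup_iff_of_normalizes hz).1 hg
    have hpz : (0 : ℤ) < p := by exact_mod_cast hp
    have hr0 : 0 ≤ k % (p : ℤ) := Int.emod_nonneg _ hpz.ne'
    have hr1 : k % (p : ℤ) < p := Int.emod_lt_of_pos _ hpz
    have hk : x ^ k = (x ^ p) ^ (k / (p : ℤ)) * x ^ (k % (p : ℤ)).toNat := by
      rw [← zpow_natCast x p, ← zpow_mul, ← zpow_natCast x (k % (p : ℤ)).toNat,
        Int.toNat_of_nonneg hr0, ← zpow_add, Int.mul_ediv_add_emod]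
    refine ⟨(⟨(k % (p : ℤ)).toNat, by omega⟩, ⟨h * (x ^ p) ^ (k / (p : ℤ)),
      mul_mem hh (zpow_mem hx _)⟩), ?_⟩
    apply Subtype.ext
    show h * (x ^ p) ^ (k / (p : ℤ)) * x ^ (k % (p : ℤ)).toNat = h * x ^ k
    rw [hk, mul_assoc]
  have h := Nat.card_le_card_of_surjective F hF
  simpa [Nat.card_prod] using h

/-- The graph argument. -/
theorem extiso_of_data {E₁ : Type u} {E₂ : Type v} [Group E₁] [Group E₂] [Finite E₁] [Finite E₂]
    {p : ℕ} (hp : 0 < p) (C₁ : Subgroup E₁) (C₂ : Subgroup E₂) (φ : C₁ ≃* C₂)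
    (a₁ b₁ : E₁) (a₂ b₂ : E₂)
    (ha₁ : ∀ c ∈ C₁, a₁ * c = c * a₁) (hb₁ : ∀ c ∈ C₁, b₁ * c = c * b₁)
    (ha₂ : ∀ c ∈ C₂, a₂ * c = c * a₂) (hb₂ : ∀ c ∈ C₂, b₂ * c = c * b₂)
    (hgen₁ : ∀ g : E₁, ∃ c ∈ C₁, ∃ s t : ℤ, g = c * a₁ ^ s * b₁ ^ t)
    (hgen₂ : ∀ g : E₂, ∃ c ∈ C₂, ∃ s t : ℤ, g = c * a₂ ^ s * b₂ ^ t)
    (hab : ∃ h : ⁅b₁, a₁⁆ ∈ C₁, (φ ⟨_, h⟩ : E₂) = ⁅b₂, a₂⁆)
    (hap : ∃ h : a₁ ^ p ∈ C₁, (φ ⟨_, h⟩ : E₂) = a₂ ^ p)
    (hbp : ∃ h : b₁ ^ p ∈ C₁, (φ ⟨_, h⟩ : E₂) = b₂ ^ p)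
    (hcard₁ : Nat.card E₁ = p ^ 2 * Nat.card C₁) (hcard₂ : Nat.card E₂ = p ^ 2 * Nat.card C₂) :
    ∃ f : E₁ ≃* E₂, (∀ c : C₁, f c = φ c) ∧ f a₁ = a₂ ∧ f b₁ = b₂ := by
  let ι : C₁ →* E₁ × E₂ := MonoidHom.prod C₁.subtype (C₂.subtype.comp φ.toMonoidHom)
  have hι : ∀ c : C₁, ι c = ((c : E₁), (φ c : E₂)) := fun c => rfl
  have hιinj : Function.Injective ι := by
    intro c d h
    have := congrArg Prod.fst h
    exact Subtype.ext this
  let Ch : Subgroup (E₁ × E₂) := ι.range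
  let A : E₁ × E₂ := (a₁, a₂)
  let B : E₁ × E₂ := (b₁, b₂)
  have hmemCh : ∀ c : C₁, ((c : E₁), (φ c : E₂)) ∈ Ch := fun c => ⟨c, rfl⟩
  have hAc : ∀ t ∈ Ch, A * t = t * A := by
    rintro _ ⟨c, rfl⟩
    rw [hι]
    exact Prod.ext (ha₁ _ c.2) (ha₂ _ (φ c).2)
  have hBc : ∀ t ∈ Ch, B * t = t * B := by
    rintro _ ⟨c, rfl⟩
    rw [hι]
    exact Prod.ext (hb₁ _ c.2) (hb₂ _ (φ c).2)
  have hAN : A ∈ Subgroup.normalizer (Ch : Set (E₁ × E₂)) :=
    Subgroup.centralizer_le_normalizer _ (Subgroup.mem_centralizer_iff.2 fun t ht => (hAc t ht).symm)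
  obtain ⟨habm, habe⟩ := hab
  obtain ⟨hapm, hape⟩ := hap
  obtain ⟨hbpm, hbpe⟩ := hbp
  have hAp : A ^ p ∈ Ch := by
    have : A ^ p = (((⟨_, hapm⟩ : C₁) : E₁), (φ ⟨_, hapm⟩ : E₂)) := by
      rw [hape]; rfl
    rw [this]; exact hmemCh _
  have hBp : B ^ p ∈ Ch := by
    have : B ^ p = (((⟨_, hbpm⟩ : C₁) : E₁), (φ ⟨_, hbpm⟩ : E₂)) := by
      rw [hbpe]; rfl
    rw [this]; exact hmemCh _
  have hBA : ⁅B, A⁆ ∈ Ch := by
    have : ⁅B, A⁆ = (((⟨_, habm⟩ : C₁) : E₁), (φ ⟨_, habm⟩ : E₂)) := by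
      rw [habe]; rfl
    rw [this]; exact hmemCh _
  let Γ₁ : Subgroup (E₁ × E₂) := Ch ⊔ Subgroup.zpowers A
  let Γ : Subgroup (E₁ × E₂) := Γ₁ ⊔ Subgroup.zpowers B
  have hChΓ₁ : Ch ≤ Γ₁ := le_sup_left
  have hAΓ₁ : A ∈ Γ₁ := Subgroup.mem_sup_right (Subgroup.mem_zpowers A)
  -- a general statement on conjugation
  have hconj : ∀ (u s : E₁ × E₂), (∀ t ∈ Ch, u * t = t * u) → s ∈ Ch → u * A * u⁻¹ = s * A →
      ∀ g ∈ Γ₁, u * g * u⁻¹ ∈ Γ₁ := by
    intro u s hu hs hus g hg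
    have hle : Γ₁ ≤ Γ₁.comap (MulAut.conj u).toMonoidHom := by
      refine sup_le ?_ ?_
      · intro t ht
        show u * t * u⁻¹ ∈ Γ₁
        rw [hu t ht, mul_inv_cancel_right]
        exact hChΓ₁ ht
      · rw [Subgroup.zpowers_le]
        show u * A * u⁻¹ ∈ Γ₁
        rw [hus]
        exact mul_mem (hChΓ₁ hs) hAΓ₁
    exact hle hg
  have hBN : B ∈ Subgroup.normalizer (Γ₁ : Set (E₁ × E₂)) := by
    rw [Subgroup.mem_normalizer_iff]
    intro g
    have hs : B * A * B⁻¹ = ⁅B, A⁆ * A := by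
      rw [commutatorElement_def]; group
    have hs' : B⁻¹ * A * B⁻¹⁻¹ = ⁅B, A⁆⁻¹ * A := by
      have h1 : ⁅B, A⁆ * B = B * ⁅B, A⁆ := (hBc _ hBA).symm
      have h2 : B⁻¹ * ⁅B, A⁆ = ⁅B, A⁆ * B⁻¹ := by
        rw [inv_mul_eq_iff_eq_mul, ← mul_assoc, ← h1, mul_inv_cancel_right]
      have h3 : A = B⁻¹ * (⁅B, A⁆ * A) * B := by rw [← hs]; group
      have h4 : B⁻¹ * A * B = ⁅B, A⁆⁻¹ * A := by
        rw [eq_inv_mul_iff_mul_eq]
        calc ⁅B, A⁆ * (B⁻¹ * A * B) = (⁅B, A⁆ * B⁻¹) * A * B := by simp only [mul_assoc]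
          _ = B⁻¹ * (⁅B, A⁆ * A) * B := by rw [← h2]; simp only [mul_assoc]
          _ = A := h3.symm
      rw [inv_inv, h4]
    have hBinv : ∀ t ∈ Ch, B⁻¹ * t = t * B⁻¹ := by
      intro t ht
      rw [inv_mul_eq_iff_eq_mul, ← mul_assoc, hBc t ht, mul_inv_cancel_right]
    constructor
    · exact hconj B _ hBc hBA hs g
    · intro h
      have := hconj B⁻¹ _ hBinv (inv_mem hBA) hs' _ h
      simpa [mul_assoc] using this
  have hc1 : Nat.card Γ₁ ≤ p * Nat.card C₁ := by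
    have h := extiso_card_sup_zpowers_le hp Ch A hAN hAp
    have h2 : Nat.card Ch = Nat.card C₁ := by
      exact Nat.card_congr (MonoidHom.ofInjective hιinj).toEquiv.symm
    rwa [h2] at h
  have hc2 : Nat.card Γ ≤ p ^ 2 * Nat.card C₁ := by
    have h := extiso_card_sup_zpowers_le hp Γ₁ B hBN (hChΓ₁ hBp)
    calc Nat.card Γ ≤ p * Nat.card Γ₁ := h
      _ ≤ p * (p * Nat.card C₁) := Nat.mul_le_mul_left _ hc1
      _ = p ^ 2 * Nat.card C₁ := by ring
  have hCC : Nat.card C₁ = Nat.card C₂ := Nat.card_congr φ.toEquiv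
  have hChΓ : Ch ≤ Γ := hChΓ₁.trans le_sup_left
  have hAΓ : A ∈ Γ := (le_sup_left : Γ₁ ≤ Γ) hAΓ₁
  have hBΓ : B ∈ Γ := Subgroup.mem_sup_right (Subgroup.mem_zpowers B)
  let π₁ : Γ →* E₁ := (MonoidHom.fst E₁ E₂).comp Γ.subtype
  let π₂ : Γ →* E₂ := (MonoidHom.snd E₁ E₂).comp Γ.subtype
  have hπ₁s : Function.Surjective π₁ := by
    intro g
    obtain ⟨c, hc, s, t, rfl⟩ := hgen₁ g
    refine ⟨⟨(c, (φ ⟨c, hc⟩ : E₂)) * A ^ s * B ^ t, ?_⟩, ?_⟩
    · refine mul_mem (mul_mem (hChΓ ?_) (zpow_mem hAΓ s)) (zpow_mem hBΓ t)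
      exact hmemCh ⟨c, hc⟩
    · simp [π₁, A, B]
  have hπ₂s : Function.Surjective π₂ := by
    intro g
    obtain ⟨c, hc, s, t, rfl⟩ := hgen₂ g
    refine ⟨⟨(((φ.symm ⟨c, hc⟩ : C₁) : E₁), c) * A ^ s * B ^ t, ?_⟩, ?_⟩
    · refine mul_mem (mul_mem (hChΓ ?_) (zpow_mem hAΓ s)) (zpow_mem hBΓ t)
      have := hmemCh (φ.symm ⟨c, hc⟩)
      simpa using this
    · simp [π₂, A, B]
  have hπ₁b : Function.Bijective π₁ :=
    hπ₁s.bijective_of_nat_card_le (by rw [hcard₁]; exact hc2)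
  have hπ₂b : Function.Bijective π₂ :=
    hπ₂s.bijective_of_nat_card_le (by rw [hcard₂, ← hCC]; exact hc2)
  let e₁ : Γ ≃* E₁ := MulEquiv.ofBijective π₁ hπ₁b
  let e₂ : Γ ≃* E₂ := MulEquiv.ofBijective π₂ hπ₂b
  have key : ∀ γ : Γ, (e₁.symm.trans e₂) (γ : E₁ × E₂).1 = (γ : E₁ × E₂).2 := by
    intro γ
    have h1 : e₁.symm (γ : E₁ × E₂).1 = γ := by
      rw [MulEquiv.symm_apply_eq]; rfl
    show e₂ (e₁.symm (γ : E₁ × E₂).1) = _
    rw [h1]; rfl
  refine ⟨e₁.symm.trans e₂, ?_, ?_, ?_⟩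
  · intro c
    exact key ⟨_, hChΓ (hmemCh c)⟩
  · exact key ⟨A, hAΓ⟩
  · exact key ⟨B, hBΓ⟩

/-! ### The class of groups with centre of prime order containing commutators and `p`-th powers -/

/-- Groups of class two whose centre has order `p` and contains the `p`-th powers. -/
structure ExtClass (p : ℕ) (E : Type*) [Group E] : Prop where
  card_center : Nat.card (Subgroup.center E) = p
  comm_mem : ∀ x y : E, ⁅x, y⁆ ∈ Subgroup.center E
  pow_mem : ∀ x : E, x ^ p ∈ Subgroup.center E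

theorem ExtClass.of_extraspecial {p : ℕ} [Fact p.Prime] {E : Type*} [Group E] [Finite E]
    (h : IsExtraspecial p E) : ExtClass p E :=
  ⟨h.2, Cfsg.Agent.Lib.Coprime.ext_commutator_mem h, Cfsg.Agent.Lib.Coprime.ext_pow_mem h⟩

section class2

variable {E : Type*} [Group E]

theorem extc_centralizer_pair {X : Type*} [Group X] (a b c : X)
    (hc : c ∈ Subgroup.centralizer ({a, b} : Set X)) : a * c = c * a ∧ b * c = c * b := by
  rw [Subgroup.mem_centralizer_iff] at hc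
  exact ⟨hc a (by simp), hc b (by simp)⟩

theorem extc_center_centralizer {X : Type*} [Group X] (S : Set X) (w : X)
    (hw : w ∈ Subgroup.center X) (hw' : w ∈ Subgroup.centralizer S) :
    (⟨w, hw'⟩ : Subgroup.centralizer S) ∈ Subgroup.center (Subgroup.centralizer S) := by
  rw [Subgroup.mem_center_iff]
  intro g
  exact Subtype.ext (Subgroup.mem_center_iff.1 hw g)

theorem extc_mul_left (hc : ∀ x y : E, ⁅x, y⁆ ∈ Subgroup.center E) (x y w : E) :
    ⁅x * y, w⁆ = ⁅x, w⁆ * ⁅y, w⁆ := by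
  have h := Subgroup.mem_center_iff.1 (hc y w)
  calc ⁅x * y, w⁆ = x * ⁅y, w⁆ * (w * x⁻¹ * w⁻¹) := by
        simp only [commutatorElement_def]; group
    _ = ⁅y, w⁆ * x * (w * x⁻¹ * w⁻¹) := by rw [← h x]
    _ = ⁅y, w⁆ * ⁅x, w⁆ := by simp only [commutatorElement_def]; group
    _ = ⁅x, w⁆ * ⁅y, w⁆ := (h _).symm

/-- Commutation with `w`, as a homomorphism to the centre. -/
def extcHomL (hc : ∀ x y : E, ⁅x, y⁆ ∈ Subgroup.center E) (w : E) : E →* Subgroup.center E :=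
  MonoidHom.mk' (fun x => ⟨⁅x, w⁆, hc x w⟩) (fun x y => Subtype.ext (extc_mul_left hc x y w))

@[simp] theorem extcHomL_coe (hc : ∀ x y : E, ⁅x, y⁆ ∈ Subgroup.center E) (w x : E) :
    (extcHomL hc w x : E) = ⁅x, w⁆ := rfl

theorem extc_zpow_left (hc : ∀ x y : E, ⁅x, y⁆ ∈ Subgroup.center E) (x w : E) (k : ℤ) :
    ⁅x ^ k, w⁆ = ⁅x, w⁆ ^ k := by
  have := map_zpow (extcHomL hc w) x k
  exact congrArg Subtype.val this

theorem extc_zpow_right (hc : ∀ x y : E, ⁅x, y⁆ ∈ Subgroup.center E) (x w : E) (k : ℤ) :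
    ⁅w, x ^ k⁆ = ⁅w, x⁆ ^ k := by
  rw [← commutatorElement_inv, extc_zpow_left hc, ← commutatorElement_inv x w, inv_zpow]

end class2

namespace ExtClass

variable {p : ℕ} [hpf : Fact p.Prime] {E : Type*} [Group E]

theorem exists_z (hE : ExtClass p E) : ∃ z ∈ Subgroup.center E, z ≠ 1 := by
  have hp : p.Prime := hpf.out
  have : Subgroup.center E ≠ ⊥ := by
    intro h
    have h1 := hE.card_center
    rw [h, Subgroup.card_bot] at h1
    exact hp.one_lt.ne h1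
  exact (Subgroup.ne_bot_iff_exists_ne_one.1 this).elim fun z hz =>
    ⟨z, z.2, fun h => hz (Subtype.ext h)⟩

/-- Central elements are powers of any nontrivial central element. -/
theorem mem_zpowers (hE : ExtClass p E) {z w : E} (hz : z ∈ Subgroup.center E) (hz1 : z ≠ 1)
    (hw : w ∈ Subgroup.center E) : ∃ k : ℤ, z ^ k = w := by
  have h : (⟨w, hw⟩ : Subgroup.center E) ∈ Subgroup.zpowers (⟨z, hz⟩ : Subgroup.center E) :=
    mem_zpowers_of_prime_card hE.card_center (fun h => hz1 (congrArg Subtype.val h))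
  obtain ⟨k, hk⟩ := h
  exact ⟨k, congrArg Subtype.val hk⟩

/-- If the group is abelian, it has order `p`. -/
theorem card_of_comm (hE : ExtClass p E) (h : ∀ x y : E, ⁅x, y⁆ = 1) : Nat.card E = p := by
  have htop : Subgroup.center E = ⊤ := by
    rw [eq_top_iff]
    intro x _
    rw [Subgroup.mem_center_iff]
    intro g
    exact commutatorElement_eq_one_iff_mul_comm.1 (h g x)
  rw [← hE.card_center, htop, Subgroup.card_top]

/-- Otherwise every nontrivial central element is a commutator. -/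
theorem exists_comm_eq (hE : ExtClass p E) (h : ¬ ∀ x y : E, ⁅x, y⁆ = 1) {z : E}
    (hz : z ∈ Subgroup.center E) (hz1 : z ≠ 1) : ∃ a b : E, ⁅b, a⁆ = z := by
  simp only [not_forall] at h
  obtain ⟨x, y, hxy⟩ := h
  obtain ⟨k, hk⟩ := hE.mem_zpowers (hE.comm_mem x y) hxy hz
  refine ⟨y ^ k, x, ?_⟩
  rw [extc_zpow_right hE.comm_mem, hk]

/-- The splitting of a group in the class over the centralizer of a noncommuting pair. -/
theorem split [Finite E] (hE : ExtClass p E) {z a b : E} (hz : z ∈ Subgroup.center E) (hz1 : z ≠ 1)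
    (hab : ⁅b, a⁆ = z) :
    Nat.card E = p ^ 2 * Nat.card (Subgroup.centralizer ({a, b} : Set E)) ∧
    (∀ g : E, ∃ c ∈ Subgroup.centralizer ({a, b} : Set E), ∃ s t : ℤ, g = c * a ^ s * b ^ t) ∧
    ExtClass p (Subgroup.centralizer ({a, b} : Set E)) ∧
    Subgroup.center E ≤ Subgroup.centralizer ({a, b} : Set E) := by
  set C := Subgroup.centralizer ({a, b} : Set E) with hC
  have hc := hE.comm_mem
  let Ψ : E →* Subgroup.center E × Subgroup.center E :=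
    (extcHomL hc a).prod (extcHomL hc b)
  let z' : Subgroup.center E := ⟨z, hz⟩
  have hz'1 : z' ≠ 1 := fun h => hz1 (congrArg Subtype.val h)
  have hΨa : Ψ a = (1, z'⁻¹) := by
    refine Prod.ext (Subtype.ext ?_) (Subtype.ext ?_)
    · show ⁅a, a⁆ = 1
      exact commutatorElement_self a
    · show ⁅a, b⁆ = z⁻¹
      rw [← hab, commutatorElement_inv]
  have hΨb : Ψ b = (z', 1) := by
    refine Prod.ext (Subtype.ext ?_) (Subtype.ext ?_)
    · exact hab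
    · show ⁅b, b⁆ = 1
      exact commutatorElement_self b
  have hpre : ∀ w : Subgroup.center E × Subgroup.center E, ∃ s t : ℤ, Ψ (a ^ s * b ^ t) = w := by
    rintro ⟨w₁, w₂⟩
    obtain ⟨s, hs⟩ : w₁ ∈ Subgroup.zpowers z' := mem_zpowers_of_prime_card hE.card_center hz'1
    obtain ⟨t, ht⟩ : w₂ ∈ Subgroup.zpowers z' := mem_zpowers_of_prime_card hE.card_center hz'1
    refine ⟨-t, s, ?_⟩
    rw [map_mul, map_zpow, map_zpow, hΨa, hΨb]
    refine Prod.ext ?_ ?_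
    · simpa using hs
    · simpa using ht
  have hsurj : Function.Surjective Ψ := fun w => by
    obtain ⟨s, t, h⟩ := hpre w
    exact ⟨_, h⟩
  have hmemC : ∀ g : E, g ∈ C ↔ g * a = a * g ∧ g * b = b * g := by
    intro g
    rw [hC, Subgroup.mem_centralizer_iff]
    constructor
    · intro h
      exact ⟨(h a (by simp)).symm, (h b (by simp)).symm⟩
    · rintro ⟨h1, h2⟩ x hx
      rcases hx with rfl | rfl
      · exact h1.symm
      · exact h2.symm
  have hker : Ψ.ker = C := by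
    ext g
    rw [MonoidHom.mem_ker, hmemC]
    constructor
    · intro h
      have h1 : ⁅g, a⁆ = 1 := congrArg (fun t : Subgroup.center E × Subgroup.center E => (t.1 : E)) h
      have h2 : ⁅g, b⁆ = 1 := congrArg (fun t : Subgroup.center E × Subgroup.center E => (t.2 : E)) h
      exact ⟨commutatorElement_eq_one_iff_mul_comm.1 h1, commutatorElement_eq_one_iff_mul_comm.1 h2⟩
    · rintro ⟨h1, h2⟩
      refine Prod.ext (Subtype.ext ?_) (Subtype.ext ?_)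
      · exact commutatorElement_eq_one_iff_mul_comm.2 h1
      · exact commutatorElement_eq_one_iff_mul_comm.2 h2
  have hZC : Subgroup.center E ≤ C := by
    intro w hw
    rw [hmemC]
    exact ⟨(Subgroup.mem_center_iff.1 hw a).symm, (Subgroup.mem_center_iff.1 hw b).symm⟩
  have hgen : ∀ g : E, ∃ c ∈ C, ∃ s t : ℤ, g = c * a ^ s * b ^ t := by
    intro g
    obtain ⟨s, t, h⟩ := hpre (Ψ g)
    refine ⟨g * (a ^ s * b ^ t)⁻¹, ?_, s, t, ?_⟩
    · rw [← hker, MonoidHom.mem_ker, map_mul, map_inv, h, mul_inv_cancel]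
    · group
  refine ⟨?_, hgen, ?_, hZC⟩
  · have h1 := Subgroup.card_eq_card_quotient_mul_card_subgroup Ψ.ker
    have h2 : Nat.card (E ⧸ Ψ.ker) = Nat.card (Subgroup.center E × Subgroup.center E) :=
      Nat.card_congr (QuotientGroup.quotientKerEquivOfSurjective Ψ hsurj).toEquiv
    rw [h2, Nat.card_prod, hE.card_center, hker] at h1
    rw [h1]; ring
  · have hcen : ∀ w : C, w ∈ Subgroup.center C ↔ (w : E) ∈ Subgroup.center E := by
      intro w
      constructor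
      · intro hw
        rw [Subgroup.mem_center_iff]
        intro g
        obtain ⟨c, hc', s, t, rfl⟩ := hgen g
        have h1 : Commute (c : E) w := by
          have := Subgroup.mem_center_iff.1 hw ⟨c, hc'⟩
          exact congrArg Subtype.val this
        have h2 : Commute a w := ((hmemC _).1 w.2).1.symm
        have h3 : Commute b w := ((hmemC _).1 w.2).2.symm
        exact ((h1.mul_left (h2.zpow_left s)).mul_left (h3.zpow_left t)).eq
      · intro hw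
        rw [Subgroup.mem_center_iff]
        intro g
        exact Subtype.ext (Subgroup.mem_center_iff.1 hw g)
    refine ⟨?_, ?_, ?_⟩
    · rw [← hE.card_center]
      exact Nat.card_congr
        { toFun := fun x => ⟨(x.1 : E), (hcen _).1 x.2⟩
          invFun := fun y => ⟨⟨y.1, hZC y.2⟩, (hcen _).2 y.2⟩
          left_inv := fun x => rfl
          right_inv := fun y => rfl }
    · intro x y
      exact (hcen _).2 (hE.comm_mem _ _)
    · intro x
      exact (hcen _).2 (hE.pow_mem _)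

/-- The isomorphism produced from an isomorphism between the centralizers. -/
theorem iso_of_split {E₁ : Type u} {E₂ : Type v} [Group E₁] [Group E₂] [Finite E₁] [Finite E₂]
    (h₁ : ExtClass p E₁) (h₂ : ExtClass p E₂) {z₁ a₁ b₁ : E₁} {z₂ a₂ b₂ : E₂}
    (hz₁ : z₁ ∈ Subgroup.center E₁) (hz₂ : z₂ ∈ Subgroup.center E₂) (hz₁1 : z₁ ≠ 1) (hz₂1 : z₂ ≠ 1)
    (hab₁ : ⁅b₁, a₁⁆ = z₁) (hab₂ : ⁅b₂, a₂⁆ = z₂)
    (φ : Subgroup.centralizer ({a₁, b₁} : Set E₁) ≃* Subgroup.centralizer ({a₂, b₂} : Set E₂))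
    (hφ : ∃ h, (φ ⟨z₁, h⟩ : E₂) = z₂)
    (hap : ∃ h, (φ ⟨a₁ ^ p, h⟩ : E₂) = a₂ ^ p)
    (hbp : ∃ h, (φ ⟨b₁ ^ p, h⟩ : E₂) = b₂ ^ p) :
    ∃ f : E₁ ≃* E₂, f z₁ = z₂ := by
  have hp : p.Prime := hpf.out
  obtain ⟨hc₁, hg₁, -, hZ₁⟩ := h₁.split hz₁ hz₁1 hab₁
  obtain ⟨hc₂, hg₂, -, hZ₂⟩ := h₂.split hz₂ hz₂1 hab₂
  obtain ⟨h0, h0e⟩ := hφ
  obtain ⟨f, hf, -, -⟩ := extiso_of_data hp.pos _ _ φ a₁ b₁ a₂ b₂
    (fun c hc => (extc_centralizer_pair a₁ b₁ c hc).1) (fun c hc => (extc_centralizer_pair a₁ b₁ c hc).2)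
    (fun c hc => (extc_centralizer_pair a₂ b₂ c hc).1) (fun c hc => (extc_centralizer_pair a₂ b₂ c hc).2)
    hg₁ hg₂ (by
      subst hab₁ hab₂
      exact ⟨h0, h0e⟩) hap hbp hc₁ hc₂
  refine ⟨f, ?_⟩
  rw [← h0e]
  exact hf ⟨z₁, h0⟩

end ExtClass

/-- Classification for exponent `p`: an isomorphism taking any nontrivial central element to any
other. -/
theorem extc_iso_exp {p : ℕ} [hpf : Fact p.Prime] : ∀ (n : ℕ) (E₁ : Type u) (E₂ : Type v)
    [Group E₁] [Group E₂] [Finite E₁] [Finite E₂], Nat.card E₁ = n → Nat.card E₂ = n →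
    ExtClass p E₁ → ExtClass p E₂ → (∀ x : E₁, x ^ p = 1) → (∀ x : E₂, x ^ p = 1) →
    ∀ (z₁ : E₁) (z₂ : E₂), z₁ ∈ Subgroup.center E₁ → z₂ ∈ Subgroup.center E₂ → z₁ ≠ 1 → z₂ ≠ 1 →
    ∃ f : E₁ ≃* E₂, f z₁ = z₂ := by
  have hp : p.Prime := hpf.out
  intro n
  induction n using Nat.strong_induction_on with
  | _ n ih =>
    intro E₁ E₂ _ _ _ _ hn₁ hn₂ h₁ h₂ he₁ he₂ z₁ z₂ hz₁ hz₂ hz₁1 hz₂1
    by_cases hab₁ : ∀ x y : E₁, ⁅x, y⁆ = 1
    · -- abelian: order `p`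
      have hc₁ := h₁.card_of_comm hab₁
      have hc₂ : Nat.card E₂ = p := by rw [hn₂, ← hn₁, hc₁]
      have hg₁ : ∀ x : E₁, x ∈ Subgroup.zpowers z₁ := fun x => mem_zpowers_of_prime_card hc₁ hz₁1
      have hg₂ : ∀ x : E₂, x ∈ Subgroup.zpowers z₂ := fun x => mem_zpowers_of_prime_card hc₂ hz₂1
      have ho : orderOf z₁ = orderOf z₂ := by
        rw [orderOf_eq_prime (he₁ z₁) hz₁1, orderOf_eq_prime (he₂ z₂) hz₂1]
      exact ⟨mulEquivOfOrderOfEq hg₁ hg₂ ho, mulEquivOfOrderOfEq_apply_gen hg₁ hg₂ ho⟩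
    · have hab₂ : ¬ ∀ x y : E₂, ⁅x, y⁆ = 1 := by
        intro h
        have hc₂ := h₂.card_of_comm h
        have hc₁ : Nat.card E₁ = p := by rw [hn₁, ← hn₂, hc₂]
        -- then `E₁` equals its centre
        have htop : Subgroup.center E₁ = ⊤ := by
          apply Subgroup.eq_top_of_card_eq
          rw [h₁.card_center, hc₁]
        apply hab₁
        intro x y
        apply commutatorElement_eq_one_iff_mul_comm.2
        have : x ∈ Subgroup.center E₁ := by rw [htop]; trivial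
        exact (Subgroup.mem_center_iff.1 this y).symm
      obtain ⟨a₁, b₁, h1⟩ := h₁.exists_comm_eq hab₁ hz₁ hz₁1
      obtain ⟨a₂, b₂, h2⟩ := h₂.exists_comm_eq hab₂ hz₂ hz₂1
      obtain ⟨hc₁, -, hC₁, hZ₁⟩ := h₁.split hz₁ hz₁1 h1
      obtain ⟨hc₂, -, hC₂, hZ₂⟩ := h₂.split hz₂ hz₂1 h2
      have hp2 : 1 < p ^ 2 := Nat.one_lt_pow (by norm_num) hp.one_lt
      have hn0 : 0 < n := by rw [← hn₁]; exact Nat.card_pos
      have hCC : Nat.card (Subgroup.centralizer ({a₁, b₁} : Set E₁)) =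
          Nat.card (Subgroup.centralizer ({a₂, b₂} : Set E₂)) :=
        Nat.eq_of_mul_eq_mul_left (by omega) (hc₁.symm.trans (hn₁.trans (hn₂.symm.trans hc₂)))
      have hlt : Nat.card (Subgroup.centralizer ({a₁, b₁} : Set E₁)) < n := by
        rw [← hn₁, hc₁]
        have hpos : 0 < Nat.card (Subgroup.centralizer ({a₁, b₁} : Set E₁)) := Nat.card_pos
        nlinarith
      have hz₁C : z₁ ∈ Subgroup.centralizer ({a₁, b₁} : Set E₁) := hZ₁ hz₁
      have hz₂C : z₂ ∈ Subgroup.centralizer ({a₂, b₂} : Set E₂) := hZ₂ hz₂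
      obtain ⟨φ, hφ⟩ := ih _ hlt (Subgroup.centralizer ({a₁, b₁} : Set E₁))
        (Subgroup.centralizer ({a₂, b₂} : Set E₂)) rfl hCC.symm hC₁ hC₂
        (fun x => Subtype.ext (he₁ _)) (fun x => Subtype.ext (he₂ _))
        ⟨z₁, hz₁C⟩ ⟨z₂, hz₂C⟩ (extc_center_centralizer _ _ hz₁ _) (extc_center_centralizer _ _ hz₂ _)
        (fun h => hz₁1 (congrArg Subtype.val h)) (fun h => hz₂1 (congrArg Subtype.val h))
      have hone : ∀ (u : E₁) (v : E₂), u ^ p = 1 → v ^ p = 1 →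
          ∃ h, (φ ⟨u ^ p, h⟩ : E₂) = v ^ p := by
        intro u v hu hv
        have hm : u ^ p ∈ Subgroup.centralizer ({a₁, b₁} : Set E₁) := by
          rw [hu]; exact one_mem _
        refine ⟨hm, ?_⟩
        have : (⟨u ^ p, hm⟩ : Subgroup.centralizer ({a₁, b₁} : Set E₁)) = 1 := Subtype.ext hu
        rw [this, map_one, hv]; rfl
      exact h₁.iso_of_split h₂ hz₁ hz₂ hz₁1 hz₂1 h1 h2 φ
        ⟨hz₁C, congrArg Subtype.val hφ⟩ (hone _ _ (he₁ _) (he₂ _)) (hone _ _ (he₁ _) (he₂ _))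

/-- Extraspecial groups of exponent `p` of equal order are isomorphic. -/
theorem extraspecial_exp_iso {E₁ : Type u} {E₂ : Type v} [Group E₁] [Group E₂] [Finite E₁]
    [Finite E₂] {p : ℕ} [Fact p.Prime] (h₁ : IsExtraspecial p E₁) (h₂ : IsExtraspecial p E₂)
    (he₁ : ∀ x : E₁, x ^ p = 1) (he₂ : ∀ x : E₂, x ^ p = 1) (hc : Nat.card E₁ = Nat.card E₂) :
    Nonempty (E₁ ≃* E₂) := by
  have h₁' := ExtClass.of_extraspecial h₁
  have h₂' := ExtClass.of_extraspecial h₂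
  obtain ⟨z₁, hz₁, hz₁1⟩ := h₁'.exists_z
  obtain ⟨z₂, hz₂, hz₂1⟩ := h₂'.exists_z
  obtain ⟨f, -⟩ := extc_iso_exp _ E₁ E₂ rfl hc.symm h₁' h₂' he₁ he₂ z₁ z₂ hz₁ hz₂ hz₁1 hz₂1
  exact ⟨f⟩

end Cfsg.Agent.Lib.Basic
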