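import Mathlib
import Cfsg.Agent.Lib.Basic.ExtraIso
import Cfsg.Agent.Lib.Transfer.Frobenius

/-!
# Groups with generalized quaternion Sylow `2`-subgroups: normal `2`-complement or `SL(2,3)`-section
-/

set_option autoImplicit false
set_option linter.unusedSectionVars false
set_option linter.style.haveILetI false

namespace Cfsg.Agent.Lib.Basic

open Cfsg
open scoped commutatorElement

/-- `SL(2,3)`. -/
abbrev QsSL23 := Matrix.SpecialLinearGroup (Fin 2) (ZMod 3)

/-- A generator of order four. -/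
def qsI : QsSL23 := ⟨!![1, 1; 1, 2], by decide +kernel⟩
/-- Another generator of order four. -/
def qsJ : QsSL23 := ⟨!![0, 1; 2, 0], by decide +kernel⟩
/-- A generator of order three. -/
def qsS : QsSL23 := ⟨!![1, 0; 1, 1], by decide +kernel⟩

theorem qs_I4 : qsI ^ 4 = 1 := by decide +kernel
theorem qs_J2 : qsJ ^ 2 = qsI ^ 2 := by decide +kernel
theorem qs_JI : qsJ * qsI * qsJ⁻¹ = qsI⁻¹ := by decide +kernel
theorem qs_SI : qsS * qsI * qsS⁻¹ = qsJ := by decide +kernel
theorem qs_SJ : qsS * qsJ * qsS⁻¹ = qsI * qsJ := by decide +kernel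
theorem qs_S3 : qsS ^ 3 = 1 := by decide +kernel

theorem qs_word : ∀ A : QsSL23, ∃ k : Fin 4, ∃ l : Fin 2, ∃ m : Fin 3,
    A = qsI ^ k.val * qsJ ^ l.val * qsS ^ m.val := by decide +kernel

theorem qs_normal : ∀ x : QsSL23, x ≠ 1 → x = qsI ^ 2 ∨ x ^ 2 = qsI ^ 2 ∨ x ^ 3 = qsI ^ 2 ∨
    ∃ y : QsSL23, (x * y * x⁻¹ * y⁻¹) ^ 2 = qsI ^ 2 := by decide +kernel

theorem qs_card_fintype : Fintype.card QsSL23 = 24 := by decide +kernel

theorem qs_card : Nat.card QsSL23 = 24 := by
  rw [Nat.card_eq_fintype_card, qs_card_fintype]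

/-- In a finite group it suffices to have one inclusion for the normalizer. -/
theorem qs_mem_normalizer {G : Type*} [Group G] [Finite G] (H : Subgroup G) (g : G)
    (h : ∀ x ∈ H, g * x * g⁻¹ ∈ H) : g ∈ Subgroup.normalizer (H : Set G) := by
  have hle : H.map (MulAut.conj g).toMonoidHom ≤ H := by
    rintro _ ⟨x, hx, rfl⟩
    exact h x hx
  have hcard : Nat.card (H.map (MulAut.conj g).toMonoidHom) = Nat.card H :=
    Subgroup.card_map_of_injective (MulAut.conj g).injective
  have heq := Subgroup.eq_of_le_of_card_ge hle hcard.ge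
  rw [Subgroup.mem_normalizer_iff]
  intro x
  refine ⟨h x, fun hx => ?_⟩
  rw [← heq] at hx
  obtain ⟨y, hy, hyx⟩ := hx
  have hyx' : g * y * g⁻¹ = g * x * g⁻¹ := hyx
  have : y = x := by
    simpa using hyx'
  rwa [← this]

/-- Recognition of `SL(2,3)`: relations in a group generated by three elements. -/
theorem qs_iso_of_rel {E : Type*} [Group E] [Finite E] (i j s : E)
    (h4 : i ^ 4 = 1) (h2 : j ^ 2 = i ^ 2) (hji : j * i * j⁻¹ = i⁻¹) (hsi : s * i * s⁻¹ = j)
    (hsj : s * j * s⁻¹ = i * j) (hs3 : s ^ 3 = 1) (hne : i ^ 2 ≠ 1)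
    (hgen : Subgroup.closure ({i, j, s} : Set E) = ⊤) : Nonempty (E ≃* QsSL23) := by
  let I : E × QsSL23 := (i, qsI)
  let J : E × QsSL23 := (j, qsJ)
  let S : E × QsSL23 := (s, qsS)
  have hI4 : I ^ 4 = 1 := Prod.ext h4 qs_I4
  have hJ2 : J ^ 2 = I ^ 2 := Prod.ext h2 qs_J2
  have hJI : J * I * J⁻¹ = I⁻¹ := Prod.ext hji qs_JI
  have hSI : S * I * S⁻¹ = J := Prod.ext hsi qs_SI
  have hSJ : S * J * S⁻¹ = I * J := Prod.ext hsj qs_SJ
  have hS3 : S ^ 3 = 1 := Prod.ext hs3 qs_S3
  let Γ₀ : Subgroup (E × QsSL23) := Subgroup.zpowers I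
  let Γ₁ : Subgroup (E × QsSL23) := Γ₀ ⊔ Subgroup.zpowers J
  let Γ₂ : Subgroup (E × QsSL23) := Γ₁ ⊔ Subgroup.zpowers S
  have hIΓ₀ : I ∈ Γ₀ := Subgroup.mem_zpowers I
  have hIΓ₁ : I ∈ Γ₁ := Subgroup.mem_sup_left hIΓ₀
  have hJΓ₁ : J ∈ Γ₁ := Subgroup.mem_sup_right (Subgroup.mem_zpowers J)
  have hIΓ₂ : I ∈ Γ₂ := Subgroup.mem_sup_left hIΓ₁
  have hJΓ₂ : J ∈ Γ₂ := Subgroup.mem_sup_left hJΓ₁
  have hSΓ₂ : S ∈ Γ₂ := Subgroup.mem_sup_right (Subgroup.mem_zpowers S)
  have c0 : Nat.card Γ₀ ≤ 4 := by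
    rw [Nat.card_zpowers]
    exact orderOf_le_of_pow_eq_one (by norm_num) hI4
  have hJN : J ∈ Subgroup.normalizer (Γ₀ : Set (E × QsSL23)) := by
    apply qs_mem_normalizer
    have hle : Γ₀ ≤ Γ₀.comap (MulAut.conj J).toMonoidHom := by
      rw [Subgroup.zpowers_le]
      show J * I * J⁻¹ ∈ Γ₀
      rw [hJI]
      exact inv_mem hIΓ₀
    exact fun x hx => hle hx
  have c1 : Nat.card Γ₁ ≤ 2 * 4 := by
    have h := extiso_card_sup_zpowers_le (p := 2) (by norm_num) Γ₀ J hJN
      (by rw [hJ2]; exact pow_mem hIΓ₀ 2)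
    exact h.trans (Nat.mul_le_mul_left 2 c0)
  have hSN : S ∈ Subgroup.normalizer (Γ₁ : Set (E × QsSL23)) := by
    apply qs_mem_normalizer
    have hle : Γ₁ ≤ Γ₁.comap (MulAut.conj S).toMonoidHom := by
      refine sup_le ?_ ?_
      · rw [Subgroup.zpowers_le]
        show S * I * S⁻¹ ∈ Γ₁
        rw [hSI]
        exact hJΓ₁
      · rw [Subgroup.zpowers_le]
        show S * J * S⁻¹ ∈ Γ₁
        rw [hSJ]
        exact mul_mem hIΓ₁ hJΓ₁
    exact fun x hx => hle hx
  have c2 : Nat.card Γ₂ ≤ 24 := by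
    have h := extiso_card_sup_zpowers_le (p := 3) (by norm_num) Γ₁ S hSN
      (by rw [hS3]; exact one_mem _)
    exact h.trans (by omega)
  let π₂ : Γ₂ →* QsSL23 := (MonoidHom.snd E QsSL23).comp Γ₂.subtype
  have hπ₂s : Function.Surjective π₂ := by
    intro A
    obtain ⟨k, l, m, rfl⟩ := qs_word A
    refine ⟨⟨I ^ k.val * J ^ l.val * S ^ m.val, mul_mem (mul_mem (pow_mem hIΓ₂ _) (pow_mem hJΓ₂ _))
      (pow_mem hSΓ₂ _)⟩, ?_⟩
    simp [π₂, I, J, S]
  have hπ₂b : Function.Bijective π₂ :=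
    hπ₂s.bijective_of_nat_card_le (by rw [qs_card]; exact c2)
  let e : Γ₂ ≃* QsSL23 := MulEquiv.ofBijective π₂ hπ₂b
  let h : QsSL23 →* E := (MonoidHom.fst E QsSL23).comp (Γ₂.subtype.comp e.symm.toMonoidHom)
  have key : ∀ γ : Γ₂, h (γ : E × QsSL23).2 = (γ : E × QsSL23).1 := by
    intro γ
    have h1 : e.symm (γ : E × QsSL23).2 = γ := by
      rw [MulEquiv.symm_apply_eq]; rfl
    show ((e.symm (γ : E × QsSL23).2 : Γ₂) : E × QsSL23).1 = _
    rw [h1]
  have hI : h qsI = i := key ⟨I, hIΓ₂⟩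
  have hJ : h qsJ = j := key ⟨J, hJΓ₂⟩
  have hS : h qsS = s := key ⟨S, hSΓ₂⟩
  have hsurj : Function.Surjective h := by
    rw [← MonoidHom.range_eq_top, eq_top_iff, ← hgen, Subgroup.closure_le]
    rintro x (rfl | rfl | rfl)
    · exact ⟨_, hI⟩
    · exact ⟨_, hJ⟩
    · exact ⟨_, hS⟩
  have hinj : Function.Injective h := by
    rw [injective_iff_map_eq_one]
    intro x hx
    by_contra hx1
    apply hne
    rw [← hI, ← map_pow]
    rcases qs_normal x hx1 with e1 | e1 | e1 | ⟨y, e1⟩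
    · rw [← e1, hx]
    · rw [← e1, map_pow, hx, one_pow]
    · rw [← e1, map_pow, hx, one_pow]
    · rw [← e1, map_pow]
      simp [hx]
  exact ⟨(MulEquiv.ofBijective h ⟨hinj, hsurj⟩).symm⟩

/-- An element of odd order normalizing a cyclic `2`-subgroup centralizes it. -/
theorem qs_comm_of_conj_mem {G : Type*} [Group G] [Finite G] {c g : G} (e : ℕ)
    (hc : c ^ 2 ^ e = 1) (hg : Nat.Coprime (orderOf g) 2) (hconj : g * c * g⁻¹ ∈ Subgroup.zpowers c) :
    g * c = c * g := by
  let P : Subgroup G := Subgroup.zpowers c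
  have hN : g ∈ Subgroup.normalizer (P : Set G) := by
    apply qs_mem_normalizer
    have hle : P ≤ P.comap (MulAut.conj g).toMonoidHom := by
      rw [Subgroup.zpowers_le]
      exact hconj
    exact fun x hx => hle hx
  let σ : MulAut P := Subgroup.normalizerMonoidHom P ⟨g, hN⟩
  have h1 : orderOf σ ∣ orderOf g := by
    have := orderOf_map_dvd (Subgroup.normalizerMonoidHom P) (⟨g, hN⟩ : Subgroup.normalizer (P : Set G))
    rwa [Subgroup.orderOf_mk] at this
  have h2 : orderOf σ ∣ Nat.totient (Nat.card P) := by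
    rw [← IsCyclic.card_mulAut P]
    exact orderOf_dvd_natCard σ
  obtain ⟨k, -, hk⟩ := (Nat.dvd_prime_pow Nat.prime_two).1
    (show Nat.card P ∣ 2 ^ e by
      rw [Nat.card_zpowers]; exact orderOf_dvd_of_pow_eq_one hc)
  have h3 : Nat.totient (Nat.card P) ∣ 2 ^ k := by
    rw [hk]
    rcases k with _ | k
    · simp
    · rw [Nat.totient_prime_pow_succ Nat.prime_two]
      simp [pow_succ]
  have h4 : orderOf σ = 1 := by
    have hco : Nat.Coprime (orderOf σ) (2 ^ k) :=
      Nat.Coprime.pow_right k (Nat.Coprime.coprime_dvd_left h1 hg)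
    exact Nat.Coprime.eq_one_of_dvd hco (h2.trans h3)
  have h5 : σ = 1 := orderOf_eq_one_iff.1 h4
  have h6 : σ ⟨c, Subgroup.mem_zpowers c⟩ = ⟨c, Subgroup.mem_zpowers c⟩ := by
    rw [h5]; rfl
  have h7 : g * c * g⁻¹ = c := congrArg Subtype.val h6
  exact mul_inv_eq_iff_eq_mul.1 h7

/-- The structure of a generalized quaternion group inside a larger group. -/
structure QuatData {G : Type*} [Group G] (T B : Subgroup G) (t : G) : Prop where
  le : B ≤ T
  cyc : IsCyclic B
  p : IsPGroup 2 T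
  out_sq : ∀ x ∈ T, x ∉ B → x ^ 2 = t
  out_conj : ∀ x ∈ T, x ∉ B → ∀ y ∈ B, x * y * x⁻¹ = y⁻¹
  out_mul : ∀ x ∈ T, ∀ y ∈ T, x ∉ B → y ∉ B → x * y ∈ B
  t_ne : t ≠ 1
  t_sq : t ^ 2 = 1
  inv : ∀ x ∈ B, x ^ 2 = 1 → x = 1 ∨ x = t

theorem qs_zpow_four {G : Type*} [Group G] {c : G} (hc : c ^ 4 = 1) (k : ℤ) :
    ∃ r : Fin 4, c ^ k = c ^ (r : ℕ) := by
  have hk : k = 4 * (k / 4) + k % 4 := (Int.mul_ediv_add_emod k 4).symm
  have h0 : c ^ (4 * (k / 4)) = 1 := by
    rw [zpow_mul, zpow_ofNat, hc, one_zpow]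
  have hr0 : 0 ≤ k % 4 := Int.emod_nonneg _ (by norm_num)
  have hr1 : k % 4 < 4 := Int.emod_lt_of_pos _ (by norm_num)
  refine ⟨⟨(k % 4).toNat, by omega⟩, ?_⟩
  show c ^ k = c ^ (k % 4).toNat
  conv_lhs => rw [hk]
  rw [zpow_add, h0, one_mul, ← zpow_natCast c, Int.toNat_of_nonneg hr0]

/-- The main analysis of an element of odd order acting nontrivially on a subgroup of a generalized
quaternion group. -/
theorem QuatData.exists_rel {G : Type*} [Group G] [Finite G] {T B : Subgroup G} {t : G}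
    (D : QuatData T B t) {Q : Subgroup G} (hQ : Q ≤ T) {g : G}
    (hgN : g ∈ Subgroup.normalizer (Q : Set G)) (hg : Nat.Coprime (orderOf g) 2)
    (hgC : g ∉ Subgroup.centralizer (Q : Set G)) :
    ∃ i j : G, i ^ 4 = 1 ∧ i ^ 2 ≠ 1 ∧ j ^ 2 = i ^ 2 ∧ j * i * j⁻¹ = i⁻¹ ∧ g * i * g⁻¹ = j ∧
      g * j * g⁻¹ = i * j := by
  -- a generator of `Q ∩ B`
  haveI := D.cyc
  have hcyc : IsCyclic ↥(Q ⊓ B) := by
    haveI : IsCyclic ↥((Q ⊓ B).subgroupOf B) := Subgroup.isCyclic _
    exact isCyclic_of_surjective _ (Subgroup.subgroupOfEquivOfLe inf_le_right).surjective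
  obtain ⟨⟨c, hcQ, hcB⟩, hgen⟩ := IsCyclic.exists_generator (α := ↥(Q ⊓ B))
  have hmem : ∀ x, x ∈ Q → x ∈ B → ∃ k : ℤ, c ^ k = x := by
    intro x hxQ hxB
    obtain ⟨k, hk⟩ := hgen ⟨x, hxQ, hxB⟩
    exact ⟨k, congrArg Subtype.val hk⟩
  have hcT : c ∈ T := D.le hcB
  have h2el : ∀ x ∈ T, ∃ e : ℕ, x ^ 2 ^ e = 1 := by
    intro x hx
    obtain ⟨e, he⟩ := D.p ⟨x, hx⟩
    exact ⟨e, congrArg Subtype.val he⟩
  have hσQ : ∀ x ∈ Q, g * x * g⁻¹ ∈ Q := fun x hx => (Subgroup.mem_normalizer_iff.1 hgN x).1 hx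
  have hodd : ∀ d ∈ T, ∀ n : ℕ, Nat.Coprime n 2 → d ^ n = 1 → d = 1 := by
    intro d hd n hn hdn
    obtain ⟨e, he⟩ := h2el d hd
    have h1 : orderOf d ∣ n := orderOf_dvd_of_pow_eq_one hdn
    have h2 : orderOf d ∣ 2 ^ e := orderOf_dvd_of_pow_eq_one he
    have hco : Nat.Coprime n (2 ^ e) := Nat.Coprime.pow_right e hn
    exact orderOf_eq_one_iff.1 (Nat.Coprime.eq_one_of_dvd (Nat.Coprime.coprime_dvd_left h1 hco) h2)
  by_cases hσc : g * c * g⁻¹ ∈ B
  · -- Case A: `Q ∩ B` is invariant; then `g` centralizes `Q`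
    exfalso
    apply hgC
    obtain ⟨k, hk⟩ := hmem _ (hσQ c hcQ) hσc
    obtain ⟨e, he⟩ := h2el c hcT
    have hcg : g * c = c * g := qs_comm_of_conj_mem e he hg ⟨k, hk⟩
    have hall : ∀ x, x ∈ Q → x ∈ B → g * x = x * g := by
      intro x hxQ hxB
      obtain ⟨l, rfl⟩ := hmem x hxQ hxB
      exact (Commute.zpow_right (show Commute g c from hcg) l).eq
    rw [Subgroup.mem_centralizer_iff]
    intro y hy
    by_cases hyB : y ∈ B
    · exact (hall y hy hyB).symm
    · have hyT := hQ hy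
      have hσyB : g * y * g⁻¹ ∉ B := by
        intro h
        have h1 := hall _ (hσQ y hy) h
        have h2 : g * y * g⁻¹ = y := by
          have h3 : g * (g * y * g⁻¹) = g * y := by
            rw [h1]; group
          exact mul_left_cancel h3
        rw [h2] at h
        exact hyB h
      have hσyT : g * y * g⁻¹ ∈ T := hQ (hσQ y hy)
      set d := (g * y * g⁻¹) * y⁻¹ with hd
      have hdB : d ∈ B := D.out_mul _ hσyT _ (inv_mem hyT) hσyB (fun h => hyB (by simpa using inv_mem h))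
      have hdQ : d ∈ Q := mul_mem (hσQ y hy) (inv_mem hy)
      have hdg : g * d = d * g := hall d hdQ hdB
      have hgy : g * y = d * y * g := by
        rw [hd]; group
      have hpow : ∀ n : ℕ, g ^ n * y = d ^ n * y * g ^ n := by
        intro n
        induction n with
        | zero => simp
        | succ n ih =>
          have hdn : g * d ^ n = d ^ n * g := (Commute.pow_right (show Commute g d from hdg) n).eq
          calc g ^ (n + 1) * y = g * (g ^ n * y) := by rw [pow_succ']; group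
            _ = g * (d ^ n * y * g ^ n) := by rw [ih]
            _ = (g * d ^ n) * y * g ^ n := by group
            _ = d ^ n * (g * y) * g ^ n := by rw [hdn]; group
            _ = d ^ n * (d * y * g) * g ^ n := by rw [hgy]
            _ = d ^ (n + 1) * y * g ^ (n + 1) := by
                rw [pow_succ d n, pow_succ' g n]; group
      have h1 := hpow (orderOf g)
      rw [pow_orderOf_eq_one, one_mul, mul_one] at h1
      have hdn : d ^ orderOf g = 1 := by
        have : y = d ^ orderOf g * y := h1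
        exact (mul_eq_right.1 this.symm)
      have hd1 : d = 1 := hodd d (D.le hdB) _ hg hdn
      have h2 : g * y * g⁻¹ = y := by
        rw [hd] at hd1
        exact mul_inv_eq_one.1 hd1
      have h3 : g * y = y * g := mul_inv_eq_iff_eq_mul.1 h2
      exact h3.symm
  · -- Case B
    set j := g * c * g⁻¹ with hj
    have hjT : j ∈ T := hQ (hσQ c hcQ)
    have hjQ : j ∈ Q := hσQ c hcQ
    have hj2 : j ^ 2 = t := D.out_sq j hjT hσc
    have hσpow : ∀ k : ℕ, j ^ k = g * c ^ k * g⁻¹ := fun k => by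
      rw [hj, conj_pow]
    have hc2ne : c ^ 2 ≠ 1 := by
      intro h
      apply D.t_ne
      rw [← hj2, hσpow, h]
      group
    have hc4 : c ^ 4 = 1 := by
      have h1 : j ^ 4 = 1 := by
        have : j ^ 4 = (j ^ 2) ^ 2 := by rw [← pow_mul]
        rw [this, hj2, D.t_sq]
      rw [hσpow] at h1
      have h2 : g * c ^ 4 = g := by
        have := mul_inv_eq_one.1 h1
        exact this
      simpa using h2
    have hc2 : c ^ 2 = t := by
      have h1 : (c ^ 2) ^ 2 = 1 := by rw [← pow_mul]; exact hc4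
      exact (D.inv _ (pow_mem hcB 2) h1).resolve_left hc2ne
    have hji : j * c * j⁻¹ = c⁻¹ := D.out_conj j hjT hσc c hcB
    have hjc : j ≠ c := fun h => hσc (h ▸ hcB)
    have hwQ : g * j * g⁻¹ ∈ Q := hσQ j hjQ
    obtain ⟨ej, hej⟩ := h2el j hjT
    obtain ⟨ec, hec⟩ := h2el c hcT
    by_cases hwB : g * j * g⁻¹ ∈ B
    · -- impossible
      exfalso
      obtain ⟨k, hk⟩ := hmem _ hwQ hwB
      have hg2 : Nat.Coprime (orderOf (g ^ 2)) 2 :=
        Nat.Coprime.coprime_dvd_left (orderOf_pow_dvd ..) hg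
      have hg2c : g ^ 2 * c = c * g ^ 2 := by
        apply qs_comm_of_conj_mem ec hec hg2
        refine ⟨k, ?_⟩
        show c ^ k = _
        rw [hk, hj]
        simp only [pow_two]
        group
      -- `g` is a power of `g ^ 2`
      have hodd' : Odd (orderOf g) := by
        rw [Nat.odd_iff]
        have := Nat.Coprime.symm hg
        rcases Nat.mod_two_eq_zero_or_one (orderOf g) with h | h
        · exfalso
          have h2 : 2 ∣ orderOf g := Nat.dvd_of_mod_eq_zero h
          have := Nat.Coprime.eq_one_of_dvd this h2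
          omega
        · exact h
      obtain ⟨m, hm⟩ := hodd'
      have hgm : g = (g ^ 2) ^ (m + 1) := by
        rw [← pow_mul]
        have : 2 * (m + 1) = orderOf g + 1 := by omega
        rw [this, pow_succ, pow_orderOf_eq_one, one_mul]
      have hgc : g * c = c * g := by
        rw [hgm]
        exact (Commute.pow_left (show Commute (g ^ 2) c from hg2c) _).eq
      apply hjc
      rw [hj, hgc]
      group
    · -- `w = c ^ k * j`
      have hwj : (g * j * g⁻¹) * j⁻¹ ∈ B :=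
        D.out_mul _ (hQ hwQ) _ (inv_mem hjT) hwB (fun h => hσc (by simpa using inv_mem h))
      obtain ⟨k, hk⟩ := hmem _ (mul_mem hwQ (inv_mem hjQ)) hwj
      have hw : g * j * g⁻¹ = c ^ k * j := by
        rw [hk]; group
      obtain ⟨r, hr⟩ := qs_zpow_four hc4 k
      rw [hr] at hw
      have hfix : g * j * g⁻¹ ≠ j := by
        intro h
        apply hjc
        have h1 : g * j * g⁻¹ = g * c * g⁻¹ := by rw [h]
        simpa using h1
      have hjc2 : c ^ 2 = j ^ 2 := by rw [hc2, hj2]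
      have hj4 : j ^ 4 = 1 := by
        have : j ^ 4 = (j ^ 2) ^ 2 := by rw [← pow_mul]
        rw [this, hj2, D.t_sq]
      fin_cases r
      · -- `r = 0`
        exfalso
        apply hfix
        simpa using hw
      · -- `r = 1`
        refine ⟨c, j, hc4, hc2ne, hjc2.symm, hji, rfl, ?_⟩
        simpa using hw
      · -- `r = 2`: `g` normalizes `⟨j⟩`
        exfalso
        apply hfix
        have hw2 : g * j * g⁻¹ = c ^ 2 * j := by simpa using hw
        have h1 : g * j * g⁻¹ ∈ Subgroup.zpowers j := by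
          rw [hw2, hjc2]
          exact mul_mem (pow_mem (Subgroup.mem_zpowers j) 2) (Subgroup.mem_zpowers j)
        have h2 := qs_comm_of_conj_mem ej hej hg h1
        rw [h2]; group
      · -- `r = 3`
        have hw3 : g * j * g⁻¹ = c ^ 3 * j := by simpa using hw
        have hc3 : c ^ 3 = c⁻¹ := by
          rw [eq_inv_iff_mul_eq_one, ← pow_succ]
          exact hc4
        have hjinv : j⁻¹ ∉ B := fun h => hσc (by simpa using inv_mem h)
        have h5 : j⁻¹ * c * j = c⁻¹ := by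
          have := D.out_conj j⁻¹ (inv_mem hjT) hjinv c hcB
          simpa using this
        refine ⟨c⁻¹, j⁻¹, ?_, ?_, ?_, ?_, ?_, ?_⟩
        · rw [inv_pow, hc4, inv_one]
        · rw [inv_pow]
          exact fun h => hc2ne (by simpa using h)
        · rw [inv_pow, inv_pow, hjc2]
        · have := D.out_conj j⁻¹ (inv_mem hjT) hjinv c⁻¹ (inv_mem hcB)
          simpa using this
        · rw [hj]; group
        · have h6 : g * j⁻¹ * g⁻¹ = (g * j * g⁻¹)⁻¹ := by group
          rw [h6, hw3, hc3, mul_inv_rev, inv_inv]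
          have h7 : j⁻¹ * c = c⁻¹ * j⁻¹ := by
            rw [← h5]; group
          exact h7

section qg

open QuaternionGroup

/-- `QuatData` from an isomorphism to the generalized quaternion group. -/
theorem exists_quatData {G : Type*} [Group G] (T : Subgroup G) (hT : IsPGroup 2 T) (n : ℕ) (hn : 1 ≤ n)
    (τ : T ≃* QuaternionGroup (2 ^ n)) : ∃ (B : Subgroup G) (t : G), QuatData T B t := by
  set m := 2 ^ n with hm
  have hm0 : 0 < m := by positivity
  haveI : NeZero m := ⟨hm0.ne'⟩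
  haveI : NeZero (2 * m) := ⟨by positivity⟩
  let ι : QuaternionGroup m →* G := T.subtype.comp τ.symm.toMonoidHom
  have hι : Function.Injective ι := Subtype.val_injective.comp τ.symm.injective
  have hιT : ∀ q, ι q ∈ T := fun q => (τ.symm q).2
  have hxι : ∀ x (hx : x ∈ T), x = ι (τ ⟨x, hx⟩) := by
    intro x hx
    show x = ((τ.symm (τ ⟨x, hx⟩) : T) : G)
    rw [MulEquiv.symm_apply_apply]
  let B : Subgroup G := Subgroup.zpowers (ι (a 1))
  have hιa : ∀ r, ι (a r) ∈ B := by
    intro r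
    have h1 : (a r : QuaternionGroup m) = a 1 ^ r.val := by
      rw [a_one_pow, ZMod.natCast_zmod_val]
    rw [h1, map_pow]
    exact pow_mem (Subgroup.mem_zpowers _) _
  have hBa : ∀ x ∈ B, ∃ r, x = ι (a r) := by
    rintro _ ⟨k, rfl⟩
    show ∃ r, ι (a 1) ^ k = _
    rcases Int.eq_nat_or_neg k with ⟨l, rfl | rfl⟩
    · refine ⟨(l : ZMod (2 * m)), ?_⟩
      rw [zpow_natCast, ← map_pow, a_one_pow]
    · refine ⟨-(l : ZMod (2 * m)), ?_⟩
      rw [zpow_neg, zpow_natCast, ← map_pow, a_one_pow, ← map_inv]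
      rfl
  have hxaB : ∀ r, ι (xa r) ∉ B := by
    intro r h
    obtain ⟨s, hs⟩ := hBa _ h
    have := hι hs
    cases this
  have hout : ∀ x ∈ T, x ∉ B → ∃ r, x = ι (xa r) := by
    intro x hx hxB
    have h := hxι x hx
    cases hq : τ ⟨x, hx⟩ with
    | a r =>
      exfalso
      rw [hq] at h
      apply hxB
      rw [h]
      exact hιa r
    | xa r =>
      rw [hq] at h
      exact ⟨r, h⟩
  have hmm : (m : ZMod (2 * m)) + m = 0 := by
    have : ((2 * m : ℕ) : ZMod (2 * m)) = 0 := ZMod.natCast_self _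
    rw [← this]
    push_cast
    ring
  refine ⟨B, ι (a m), ?_⟩
  refine ⟨?_, ?_, hT, ?_, ?_, ?_, ?_, ?_, ?_⟩
  · rw [Subgroup.zpowers_le]
    exact hιT _
  · infer_instance
  · intro x hx hxB
    obtain ⟨r, rfl⟩ := hout x hx hxB
    rw [← map_pow, xa_sq]
  · intro x hx hxB y hy
    obtain ⟨r, rfl⟩ := hout x hx hxB
    obtain ⟨s, rfl⟩ := hBa y hy
    rw [← map_mul, ← map_inv, ← map_mul, ← map_inv]
    congr 1
    show xa r * a s * xa ((m : ZMod (2 * m)) + r) = a (-s)
    rw [xa_mul_a, xa_mul_xa]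
    congr 1
    linear_combination hmm
  · intro x hx y hy hxB hyB
    obtain ⟨r, rfl⟩ := hout x hx hxB
    obtain ⟨s, rfl⟩ := hout y hy hyB
    rw [← map_mul, xa_mul_xa]
    exact hιa _
  · intro h
    have h1 : (a (m : ZMod (2 * m)) : QuaternionGroup m) = 1 := by
      apply hι
      rw [h, map_one]
    have h2 := orderOf_xa (n := m) (0 : ZMod (2 * m))
    have h3 : (xa 0 : QuaternionGroup m) ^ 2 = 1 := by rw [xa_sq, h1]
    have := orderOf_dvd_of_pow_eq_one h3
    rw [h2] at this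
    omega
  · rw [← map_pow, ← xa_sq (n := m) (0 : ZMod (2 * m)), ← pow_mul, xa_pow_four, map_one]
  · intro x hx hx2
    obtain ⟨s, rfl⟩ := hBa x hx
    rw [← map_pow] at hx2
    have h1 : (a s : QuaternionGroup m) ^ 2 = 1 := by
      apply hι
      rw [hx2, map_one]
    have h2 : s + s = 0 := by
      have h3 : (a s : QuaternionGroup m) ^ 2 = a (s + s) := by
        rw [pow_two, a_mul_a]
      rw [h3, one_def] at h1
      exact QuaternionGroup.a.inj h1
    -- `s = 0` or `s = m`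
    have hval : ((2 * s.val : ℕ) : ZMod (2 * m)) = 0 := by
      push_cast
      rw [ZMod.natCast_zmod_val, two_mul s, h2]
    rw [ZMod.natCast_eq_zero_iff] at hval
    have hdvd : m ∣ s.val := Nat.dvd_of_mul_dvd_mul_left (by norm_num) hval
    obtain ⟨q, hq⟩ := hdvd
    have hlt : s.val < 2 * m := ZMod.val_lt s
    have hq2 : q < 2 := by
      rw [hq, mul_comm] at hlt
      exact Nat.lt_of_mul_lt_mul_right hlt
    have hs : s = ((m * q : ℕ) : ZMod (2 * m)) := by
      rw [← hq, ZMod.natCast_zmod_val]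
    interval_cases q
    · left
      rw [hs]
      simp
    · right
      rw [hs, mul_one]

end qg

/-- The relations force `SL(2,3)` as a section. -/
theorem qs_section {G : Type*} [Group G] [Finite G] {i j g : G}
    (h4 : i ^ 4 = 1) (hne : i ^ 2 ≠ 1) (h2 : j ^ 2 = i ^ 2) (hji : j * i * j⁻¹ = i⁻¹)
    (hgi : g * i * g⁻¹ = j) (hgj : g * j * g⁻¹ = i * j) (hg : Nat.Coprime (orderOf g) 2) :
    ∃ (H K : Subgroup G) (hK : (K.subgroupOf H).Normal),
      Nonempty ((H ⧸ K.subgroupOf H) ≃* QsSL23) := by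
  have e1 : g * i = j * g := mul_inv_eq_iff_eq_mul.1 hgi
  have e2 : g * j = i * j * g := mul_inv_eq_iff_eq_mul.1 hgj
  have e3 : j * i * j = i := by
    have h5 : j * i = i⁻¹ * j := mul_inv_eq_iff_eq_mul.1 hji
    calc j * i * j = i⁻¹ * j * j := by rw [h5]
      _ = i⁻¹ * j ^ 2 := by rw [pow_two, mul_assoc]
      _ = i⁻¹ * i ^ 2 := by rw [h2]
      _ = i := by group
  have e4 : g * (g * j) = i * (g * g) := by
    calc g * (g * j) = g * (i * j * g) := by rw [e2]
      _ = (g * i) * (j * g) := by simp only [mul_assoc]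
      _ = (j * g) * (j * g) := by rw [e1]
      _ = j * (g * j) * g := by simp only [mul_assoc]
      _ = j * (i * j * g) * g := by rw [e2]
      _ = (j * i * j) * (g * g) := by simp only [mul_assoc]
      _ = i * (g * g) := by rw [e3]
  have e5 : g * (g * i) = (i * j) * (g * g) := by
    calc g * (g * i) = g * (j * g) := by rw [e1]
      _ = (g * j) * g := by simp only [mul_assoc]
      _ = i * j * g * g := by rw [e2]
      _ = (i * j) * (g * g) := by simp only [mul_assoc]
  have hg3i : g ^ 3 * i = i * g ^ 3 := by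
    have : g ^ 3 = g * (g * g) := by simp only [pow_succ, pow_zero, one_mul, mul_assoc]
    rw [this]
    calc g * (g * g) * i = g * (g * (g * i)) := by simp only [mul_assoc]
      _ = g * ((i * j) * (g * g)) := by rw [e5]
      _ = (g * i) * (j * (g * g)) := by simp only [mul_assoc]
      _ = (j * g) * (j * (g * g)) := by rw [e1]
      _ = j * (g * j) * (g * g) := by simp only [mul_assoc]
      _ = j * (i * j * g) * (g * g) := by rw [e2]
      _ = (j * i * j) * (g * (g * g)) := by simp only [mul_assoc]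
      _ = i * (g * (g * g)) := by rw [e3]
  have hg3j : g ^ 3 * j = j * g ^ 3 := by
    have : g ^ 3 = g * (g * g) := by simp only [pow_succ, pow_zero, one_mul, mul_assoc]
    rw [this]
    calc g * (g * g) * j = g * (g * (g * j)) := by simp only [mul_assoc]
      _ = g * (i * (g * g)) := by rw [e4]
      _ = (g * i) * (g * g) := by simp only [mul_assoc]
      _ = (j * g) * (g * g) := by rw [e1]
      _ = j * (g * (g * g)) := by simp only [mul_assoc]
  have hg3g : g ^ 3 * g = g * g ^ 3 := (pow_succ g 3).symm.trans (pow_succ' g 3)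
  let H : Subgroup G := Subgroup.closure ({i, j, g} : Set G)
  let K : Subgroup G := Subgroup.zpowers (g ^ 3)
  have hi : i ∈ H := Subgroup.subset_closure (by simp)
  have hj : j ∈ H := Subgroup.subset_closure (by simp)
  have hgH : g ∈ H := Subgroup.subset_closure (by simp)
  have hcent : H ≤ Subgroup.centralizer ({g ^ 3} : Set G) := by
    rw [Subgroup.closure_le]
    rintro x (rfl | rfl | rfl) <;> rw [SetLike.mem_coe, Subgroup.mem_centralizer_iff] <;>
      rintro y (rfl : y = _)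
    · exact hg3i
    · exact hg3j
    · exact hg3g
  have hKc : ∀ x ∈ H, ∀ y ∈ K, x * y = y * x := by
    intro x hx y hy
    obtain ⟨k, rfl⟩ := hy
    have h1 := Subgroup.mem_centralizer_iff.1 (hcent hx) (g ^ 3) rfl
    have h2 : Commute (g ^ 3) x := h1
    exact ((h2.zpow_left k).eq).symm
  have hK : (K.subgroupOf H).Normal := by
    refine ⟨fun n hn y => ?_⟩
    rw [Subgroup.mem_subgroupOf] at hn ⊢
    have : ((y * n * y⁻¹ : H) : G) = (n : G) := by
      show (y : G) * n * (y : G)⁻¹ = n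
      rw [hKc y y.2 n hn]
      group
    rw [this]
    exact hn
  refine ⟨H, K, hK, ?_⟩
  let π : H →* H ⧸ K.subgroupOf H := QuotientGroup.mk' _
  let I : H := ⟨i, hi⟩
  let J : H := ⟨j, hj⟩
  let S : H := ⟨g, hgH⟩
  have hπ : ∀ u v : H, (u : G) = v → π u = π v := fun u v h => congrArg π (Subtype.ext h)
  have hall : ∀ (u : G) (hu : u ∈ H), π ⟨u, hu⟩ ∈
      Subgroup.closure ({π I, π J, π S} : Set (H ⧸ K.subgroupOf H)) := by
    intro u hu
    induction hu using Subgroup.closure_induction with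
    | mem x hx =>
      rcases hx with rfl | rfl | rfl
      · exact Subgroup.subset_closure (by simp [I])
      · exact Subgroup.subset_closure (by simp [J])
      · exact Subgroup.subset_closure (by simp [S])
    | one => 
      have : π ⟨1, one_mem _⟩ = 1 := map_one π
      rw [this]
      exact one_mem _
    | mul x y hx hy ihx ihy =>
      have : π ⟨x * y, mul_mem hx hy⟩ = π ⟨x, hx⟩ * π ⟨y, hy⟩ :=
        map_mul π (⟨x, hx⟩ : H) (⟨y, hy⟩ : H)
      rw [this]
      exact mul_mem ihx ihy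
    | inv x hx ihx =>
      have : π ⟨x⁻¹, inv_mem hx⟩ = (π ⟨x, hx⟩)⁻¹ := map_inv π (⟨x, hx⟩ : H)
      rw [this]
      exact inv_mem ihx
  have hgen : Subgroup.closure ({π I, π J, π S} : Set (H ⧸ K.subgroupOf H)) = ⊤ := by
    rw [eq_top_iff]
    intro x _
    obtain ⟨⟨u, hu⟩, rfl⟩ := QuotientGroup.mk'_surjective (K.subgroupOf H) x
    exact hall u hu
  refine qs_iso_of_rel (π I) (π J) (π S) ?_ ?_ ?_ ?_ ?_ ?_ ?_ hgen
  · rw [← map_pow, hπ _ 1 h4, map_one]
  · rw [← map_pow, ← map_pow, hπ (J ^ 2) (I ^ 2) h2]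
  · rw [← map_inv, ← map_mul, ← map_mul, ← map_inv, hπ (J * I * J⁻¹) (I⁻¹) hji]
  · rw [← map_inv, ← map_mul, ← map_mul, hπ (S * I * S⁻¹) J hgi]
  · rw [← map_inv, ← map_mul, ← map_mul, ← map_mul, hπ (S * J * S⁻¹) (I * J) hgj]
  · rw [← map_pow]
    have : S ^ 3 ∈ K.subgroupOf H := by
      rw [Subgroup.mem_subgroupOf]
      exact Subgroup.mem_zpowers _
    exact (QuotientGroup.eq_one_iff _).2 this
  · rw [← map_pow]
    intro h
    have h1 : I ^ 2 ∈ K.subgroupOf H := (QuotientGroup.eq_one_iff _).1 h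
    rw [Subgroup.mem_subgroupOf] at h1
    have h2' : i ^ 2 ∈ K := h1
    have h3 : orderOf (i ^ 2) ∣ orderOf (g ^ 3) := orderOf_dvd_of_mem_zpowers h2'
    have h5 : orderOf (i ^ 2) = 2 := orderOf_eq_prime (by rw [← pow_mul]; exact h4) hne
    have h6 : 2 ∣ orderOf g := by
      rw [← h5]
      exact h3.trans (orderOf_pow_dvd ..)
    have := Nat.Coprime.eq_one_of_dvd hg.symm h6
    omega

/-- A finite group with generalized quaternion Sylow `2`-subgroups has a normal `2`-complement or a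
section isomorphic to `SL(2,3)`. -/
theorem quat_sylow_main {G : Type*} [Group G] [Finite G] (T : Sylow 2 G) (n : ℕ) (hn : 1 ≤ n)
    (hT : Nonempty ((T : Subgroup G) ≃* QuaternionGroup (2 ^ n))) :
    HasNormalPComplement 2 G ∨ ∃ (H K : Subgroup G) (hK : (K.subgroupOf H).Normal),
      Nonempty ((H ⧸ K.subgroupOf H) ≃* QsSL23) := by
  by_cases hN : HasNormalPComplement 2 G
  · exact Or.inl hN
  right
  obtain ⟨τ⟩ := hT
  obtain ⟨B, t, D⟩ := exists_quatData (T : Subgroup G) T.isPGroup' n hn τ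
  have : ∃ Q : Subgroup G, Q ≤ (T : Subgroup G) ∧ ∃ g ∈ Subgroup.normalizer (Q : Set G),
      Nat.Coprime (orderOf g) 2 ∧ g ∉ Subgroup.centralizer (Q : Set G) := by
    by_contra hcon
    simp only [not_exists, not_and, not_not] at hcon
    apply hN
    apply Cfsg.Agent.Lib.Transfer.hasNormalPComplement_of_stable
    apply Cfsg.Agent.Lib.Transfer.frobeniusStable_of_sylow T
    intro Q hQ g hg hc
    exact hcon Q hQ g hg hc
  obtain ⟨Q, hQ, g, hgN, hg, hgC⟩ := this
  obtain ⟨i, j, h4, hne, h2, hji, hgi, hgj⟩ := D.exists_rel hQ hgN hg hgC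
  exact qs_section h4 hne h2 hji hgi hgj hg

end Cfsg.Agent.Lib.Basic
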